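import Cfsg.Agent.Lib.Local.FS.Commute.Exists
import Cfsg.Agent.Lib.Local.FS.Layer.Exists
import Cfsg.Agent.Lib.Local.FS.QuasisimpleTransport

/-!
Every component is a normal subsystem of the layer.
-/

set_option autoImplicit false

namespace Cfsg.Agent.Local.FS.Commute

open Cfsg Cfsg.FusionSystem Cfsg.Agent.Fusion Cfsg.Agent.Local.FS

universe u

variable {Ω : Type u} [Group Ω] {S : Subgroup Ω} [Finite S] {F : FusionSystem S} {p : ℕ} [Fact p.Prime]

/-- The layer of a normal subsystem is invariant. -/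
theorem layer_weaklyNormal {M₀ T : Subgroup Ω} {M : FusionSystem M₀} {L : FusionSystem T} (hS : IsPGroup p S)
    (hF : F.IsSaturated p) (hM : M.IsNormalIn F p) (hL : L.IsLayerOf M p) : L.IsWeaklyNormalIn F p := by
  obtain ⟨hMs, -, hMi⟩ := id hM.1
  have hMS := hMi.2.1.1
  haveI := finite_of_le hMS
  have hMp := hS.to_le hMS
  obtain ⟨hLs, -, hLi⟩ := id hL.1.1
  have hTM := hLi.2.1.1
  have hsub : L.IsSubsystemOf F := fun P φ hφ => hMi.1 P (hLi.1 P hφ)
  have hinvM := (isInvariantIn_iff hMp hMs hLi.1 hLi.2.1).1 hLi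
  have hdec : ∀ (P : Subgroup Ω) (f : Ω → Ω), P ≤ M₀ → Map F P f → Decomp M F P f :=
    decomp_all hS hF hMi.1 hMi.2.1 ((isInvariantIn_iff hS hF hMi.1 hMi.2.1).1 hMi)
  have hchar : ∀ α ∈ F.autGroup M₀, im T (av α) = T ∧ ∀ (A : Subgroup Ω) (h : Ω → Ω), Map L A h →
      ∃ k, Map L (im A (av α)) k ∧ ∀ x ∈ A, k (av α x) = av α (h x) := by
    intro α hα
    have hi := fiso_of_invariant hMi hα
    obtain ⟨h1, h2⟩ := layer_char hi hMp hMs hL
    have hue : ∀ {x : Ω}, x ∈ M₀ → ue (M₀.subtype.comp α.toMonoidHom) x = av α x := fun {x} hx => by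
      rw [ue_apply hx, av_apply α hx]; rfl
    have hup : ∀ A ≤ M₀, imageAlong (M₀.subtype.comp α.toMonoidHom) A = im A (av α) := fun A hA =>
      map_subgroupOf_eq_im hA fun x => (av_coe α x).symm
    refine ⟨(hup T hTM).symm.trans h1, fun A h hh => ?_⟩
    obtain ⟨φ, hφ, he⟩ := id hh
    refine ⟨_, hup A (hh.le.trans hTM) ▸ h2 A φ hφ, fun x hx => ?_⟩
    rw [← hue (hh.le.trans hTM hx), hi.pushFn_ue (hh.le.trans hTM hx), fn_apply φ hx, he,
      hue (hTM (hh.mem hx))]
  have hcl : F.StronglyClosed T := by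
    refine stronglyClosed_iff.2 ⟨hTM.trans hMS, fun P f hP hf x hx => ?_⟩
    obtain ⟨α, hα, g, hg, he⟩ := hdec P f (hP.trans hTM) hf
    rw [he x hx]
    exact (hchar α hα).1.le (mem_im_of_mem ((stronglyClosed_iff.1 hLi.2.1).2 P g hP hg x hx))
  refine ⟨hLs, hF, (isInvariantIn_iff hS hF hsub hcl).2 fun A B f g hAB hB hf hfB hg => ?_⟩
  obtain ⟨α, hα, g₀, hg₀, he⟩ := hdec B g (hB.trans hTM) hg
  obtain ⟨h₀, hh₀, hh₀e⟩ := hinvM A B f g₀ hAB hB hf hfB hg₀
  obtain ⟨k, hk, hke⟩ := (hchar α hα).2 _ h₀ hh₀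
  refine ⟨k, ?_, fun x hx => ?_⟩
  · rw [im_congr fun x hx => he x (hAB hx), show (fun x => av α (g₀ x)) = av α ∘ g₀ from rfl,
      (hg₀.restrict hAB).im_comp]
    exact hk
  · rw [he x (hAB hx), hke _ (mem_im_of_mem hx), hh₀e x hx, ← he _ (hfB x hx)]

/-- The layer of a normal subsystem is normal. -/
theorem layer_normal {M₀ T : Subgroup Ω} {M : FusionSystem M₀} {L : FusionSystem T} (hS : IsPGroup p S)
    (hF : F.IsSaturated p) (hM : M.IsNormalIn F p) (hL : L.IsLayerOf M p) : L.IsNormalIn F p := by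
  have hMS := hM.1.2.2.2.1.1
  haveI := finite_of_le hMS
  have hMp := hS.to_le hMS
  have hTM := hL.1.1.2.2.2.1.1
  haveI := finite_of_le hTM
  have hD := isPPrimeResidual_primeRes (hMp.to_le hTM) hL.1.1.1
  have hle : L.IsSubsystemOf (primeRes L p) := hL.2.2 _ _ (primeResidual_isNormalIn hMp hL.1.1 hD)
    fun U C hC => Layer.component_sub hMp hM.1.1 hC (primeResidual_isNormalIn hMp hL.1.1 hD)
      (le_of_sub (hL.2.1 U C hC))
  have he : primeRes L p = L := eq_of_map_iff fun P f =>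
    ⟨fun h => h.of_sub hD.2.1.1, fun h => h.of_sub hle⟩
  have := primeResidual_isNormalIn hS (layer_weaklyNormal hS hF hM hL) hD
  rwa [he] at this

/-- Every component is a normal subsystem of the layer. -/
theorem component_normal_aux : ∀ {U S : Subgroup Ω} {C : FusionSystem U} {F : FusionSystem S} {p : ℕ},
    C.IsSubnormalIn F p → ∀ [Fact p.Prime] [Finite S], IsPGroup p S → F.IsSaturated p → C.Quasisimple p →
      ∀ {T : Subgroup Ω} {E : FusionSystem T}, E.IsLayerOf F p → C.IsNormalIn E p := by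
  intro U S C F p h
  induction h with
  | refl F p =>
    intro _ _ hS hF hq T E hE
    have hsub := hE.2.1 _ _ ⟨IsSubnormalIn.refl F p, hq⟩
    obtain rfl := le_antisymm hE.1.1.2.2.2.1.1 (le_of_sub hsub)
    obtain rfl : E = F := eq_of_map_iff fun P f => ⟨fun h => h.of_sub hE.1.1.2.2.1, fun h => h.of_sub hsub⟩
    exact Layer.normal_self hS hF
  | @step M₀ S C M F p h1 h2 ih =>
    intro _ _ hS hF hq T E hE
    have hMS := h2.1.2.2.2.1.1
    haveI := finite_of_le hMS
    obtain ⟨TL, L, hL⟩ := Layer.exists_layer (hS.to_le hMS) h2.1.1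
    have hCL := ih (hS.to_le hMS) h2.1.1 hq hL
    have hLn := layer_normal hS hF h2 hL
    obtain ⟨K, hK, hKc⟩ := exists_centralizer_system hS hLn
    obtain ⟨hY, hYe⟩ := centE_centEOf hS hLn
    have c : PCtx F L K p := ⟨hS, hF, hLn, hK, fun a ha b hb => (mem_centralizerIn.1 (hY hb)).2 a ha,
      fun P f hf => by
        obtain ⟨g, hg, hgf, hgY⟩ := hYe P f hf
        exact ⟨g, hg.restrict (sup_le_sup_left inf_le_right P), hgf, fun w hw => hgY w hw.2⟩,
      fun P f ⟨φ, hφ, he⟩ => by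
        obtain ⟨-, -, g, hg, hgφ, hgT⟩ := mem_centralizerHom.1 (hKc P hφ)
        exact ⟨g, hg.restrict (sup_le_sup_left inf_le_left P),
          fun x hx => (hgφ ⟨x, hx⟩).symm.trans (he ⟨x, hx⟩), fun w hw => hgT w hw.1⟩⟩
    have hP := c.sys_normal
    have hEP : E.IsSubsystemOf c.sys := hE.2.2 _ _ hP fun B₀ B hB => Layer.component_sub hS hF hB hP
      ((dichotomy hS hF hB hLn).elim (fun h => h.trans le_sup_left) fun h => h.trans le_sup_right)
    have hC : C.IsComponentIn F p := ⟨h1.step h2, hq⟩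
    have hCsub : C.IsSubsystemOf E := hE.2.1 _ _ hC
    obtain ⟨hCs, -, hCi⟩ := id hCL.1
    have hUT := hCi.2.1.1
    have hTLS := hLn.1.2.2.2.1.1
    haveI := finite_of_le hTLS
    have hTS := hE.1.1.2.2.2.1.1
    haveI := finite_of_le hTS
    have hinvL := (isInvariantIn_iff (hS.to_le hTLS) hLn.1.1 hCi.1 hCi.2.1).1 hCi
    -- maps of the product on the base of the layer of `M` are maps of that layer
    have hmap : ∀ (A : Subgroup Ω) (g : Ω → Ω), A ≤ TL → Map E A g → Map L A g := fun A g hA hg => by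
      obtain ⟨-, g₁, g₂, hg₁, hg₂, hge⟩ := c.map_sys.1 (hg.of_sub hEP)
      refine (hg₁.restrict fun a ha => ⟨Subgroup.mem_sup_left ha, hA ha⟩).congr fun a ha => ?_
      have h0 := hge a (hA ha) 1 (Subgroup.one_mem _) (by rwa [mul_one])
      rw [mul_one, hg₂.map_one, mul_one] at h0
      exact h0.symm
    have hcl : E.StronglyClosed U := stronglyClosed_iff.2 ⟨le_of_sub hCsub, fun A g hA hg x hx =>
      (stronglyClosed_iff.1 hCi.2.1).2 A g hA (hmap A g (hA.trans hUT) hg) x hx⟩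
    have hweak : C.IsWeaklyNormalIn E p := ⟨hCs, hE.1.1.1, (isInvariantIn_iff (hS.to_le hTS) hE.1.1.1 hCsub hcl).2
      fun A B f g hAB hB hf hfB hg => hinvL A B f g hAB hB hf hfB (hmap B g (hB.trans hUT) hg)⟩
    haveI := finite_of_le (le_of_sub hCsub)
    exact primeResidual_isNormalIn (hS.to_le hTS) hweak
      (Layer.quasisimple_isPPrimeResidual ((hS.to_le hTS).to_le (le_of_sub hCsub)) hq)

theorem component_normal {U T : Subgroup Ω} {C : FusionSystem U} {E : FusionSystem T} (hS : IsPGroup p S)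
    (hF : F.IsSaturated p) (hC : C.IsComponentIn F p) (hE : E.IsLayerOf F p) : C.IsNormalIn E p :=
  component_normal_aux hC.1 hS hF hC.2 hE

end Cfsg.Agent.Local.FS.Commute
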