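import Cfsg.Agent.Lib.Local.FS.Commute.Dichotomy
import Cfsg.Agent.Lib.Local.FS.Factor
import Cfsg.Agent.Lib.Local.FS.ProdSat
import Cfsg.Agent.Lib.Local.FS.LimitPrime

/-!
Components of a central product are components of a factor.
-/

set_option autoImplicit false

namespace Cfsg.Agent.Local.FS.Commute

open Cfsg Cfsg.FusionSystem Cfsg.Agent.Fusion Cfsg.Agent.Local.FS

universe u

variable {Ω : Type u} [Group Ω] {S S₁ S₂ : Subgroup Ω} [Finite S] {F : FusionSystem S}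
  {F₁ : FusionSystem S₁} {F₂ : FusionSystem S₂} {p : ℕ} [Fact p.Prime]

/-- The maps of a central product and of its factors. -/
theorem centralProduct_spec (h₁F : F₁.IsSubsystemOf F) (h₂F : F₂.IsSubsystemOf F)
    (hc : IsCentralProductOf F₁ F₂ F) :
    (∀ a ∈ S₁, ∀ b ∈ S₂, a * b = b * a) ∧ S = S₁ ⊔ S₂ ∧
    (∀ (P : Subgroup Ω) (f : Ω → Ω), Map F P f → ∃ A₁ A₂ g₁ g₂, Map F₁ A₁ g₁ ∧ Map F₂ A₂ g₂ ∧
      ∀ a ∈ S₁, ∀ b ∈ S₂, a * b ∈ P → a ∈ A₁ ∧ b ∈ A₂ ∧ f (a * b) = g₁ a * g₂ b) ∧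
    CentExt F₁ F S₂ ∧ CentExt F₂ F S₁ := by
  obtain ⟨D₀, hD₀, Z, θ, hZc, -, -, h₁, h₂, hfac⟩ := hc
  have hθ : ∀ x : ↥(S₁.prod S₂), θ x = (x : Ω × Ω).1 * (x : Ω × Ω).2 := by
    rintro ⟨⟨a, b⟩, ha, hb⟩
    have e : (⟨(a, b), ha, hb⟩ : ↥(S₁.prod S₂)) = ⟨(a, 1), ha, S₂.one_mem⟩ * ⟨(1, b), S₁.one_mem, hb⟩ :=
      Subtype.ext (Prod.ext (mul_one a).symm (one_mul b).symm)
    rw [e, map_mul, h₁ a ⟨ha, S₂.one_mem⟩, h₂ b ⟨S₁.one_mem, hb⟩]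
    simp
  have hue : ∀ {a b : Ω}, a ∈ S₁ → b ∈ S₂ → ue θ (a, b) = a * b := fun {a b} ha hb => by
    rw [ue_apply (show ((a, b) : Ω × Ω) ∈ S₁.prod S₂ from ⟨ha, hb⟩), hθ]
  have hcomm : ∀ a ∈ S₁, ∀ b ∈ S₂, a * b = b * a := fun a ha b hb => by
    have ha' : ((a, 1) : Ω × Ω) ∈ S₁.prod S₂ := ⟨ha, S₂.one_mem⟩
    have hb' : ((1, b) : Ω × Ω) ∈ S₁.prod S₂ := ⟨S₁.one_mem, hb⟩
    have e : (⟨_, ha'⟩ : ↥(S₁.prod S₂)) * ⟨_, hb'⟩ = ⟨_, hb'⟩ * ⟨_, ha'⟩ :=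
      Subtype.ext (Prod.ext (by simp) (by simp))
    have := congrArg θ e
    rwa [map_mul, map_mul, h₁ a ha', h₂ b hb'] at this
  have hS₁ : S₁ ≤ S := le_of_sub h₁F
  have hS₂ : S₂ ≤ S := le_of_sub h₂F
  haveI := finite_of_le hS₁
  haveI := finite_of_le hS₂
  haveI : Finite ↥(S₁.prod S₂) := Finite.of_equiv _ (Subgroup.prodEquiv S₁ S₂).toEquiv.symm
  have hcl : D₀.StronglyClosed Z := stronglyClosed_iff.2 ⟨hfac.1, fun R f hR hf x hx => by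
    rw [center_fixed D₀ (hZc (hR hx)) hf hx]; exact hR hx⟩
  have hlift : ∀ (X : Subgroup (Ω × Ω)) (φ : Ω × Ω → Ω × Ω), Map D₀ X φ →
      ∃ G, Map F (up θ X) G ∧ ∀ x ∈ X, G (ue θ x) = ue θ (φ x) := fun X φ hφ => by
    obtain ⟨ψ, hψ, hψφ, -⟩ := centExt_center (F := D₀) hZc X φ hφ
    have hψ' := hψ.restrict (fac_pre_up hfac hφ.le).le
    refine ⟨_, fac_induced hfac hcl (fac_up_le hfac) hψ', fun x hx => ?_⟩
    have hx' : x ∈ preimageAlong θ (up θ X) := fac_mem_pre.2 ⟨hφ.le hx, ue_mem_up hφ.le hx⟩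
    show ue θ (ψ (ve θ (ue θ x))) = _
    have hu := fac_ue_ve hfac (fac_ue_mem hfac (hφ.le hx))
    rw [fac_congr hfac hcl hψ' (fac_le_pre hfac)
      (fac_mem_pre.2 ⟨ve_mem, hu.symm ▸ ue_mem_up hφ.le hx⟩) hx' hu, hψφ x hx]
  refine ⟨hcomm, le_antisymm ?_ (sup_le hS₁ hS₂), fun P f hf => ?_, fun P f hf => ?_, fun P f hf => ?_⟩
  · rw [← hfac.2.2.1]
    rintro _ ⟨x, rfl⟩
    rw [hθ]
    exact Subgroup.mul_mem_sup x.2.1 x.2.2
  · obtain ⟨-, f₀, hf₀, hfe⟩ := fac_lift hfac hcl hf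
    obtain ⟨-, g₁, g₂, hg₁, hg₂, he⟩ := (prod_map_iff hD₀).1 hf₀
    refine ⟨_, _, g₁, g₂, hg₁, hg₂, fun a ha b hb hab => ?_⟩
    have hx : ((a, b) : Ω × Ω) ∈ preimageAlong θ P := fac_mem_pre.2 ⟨⟨ha, hb⟩, (hue ha hb).symm ▸ hab⟩
    have hx₁ : a ∈ pr₁ (preimageAlong θ P) := mem_pr₁ hx
    have hx₂ : b ∈ pr₂ (preimageAlong θ P) := mem_pr₂ hx
    refine ⟨hx₁, hx₂, ?_⟩
    rw [← hue ha hb, ← hfe _ hx, he _ hx]
    exact hue (hg₁.mem hx₁) (hg₂.mem hx₂)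
  · have hPS₁ := hf.le
    obtain ⟨G, hG, hGe⟩ := hlift (P.prod S₂) (fun x => (f x.1, x.2)) ((prod_map_iff hD₀).2
      ⟨fun x hx => ⟨hPS₁ hx.1, hx.2⟩, f, fun x => x,
        hf.restrict (by rintro _ ⟨x, hx, rfl⟩; exact hx.1),
        ((map_conjBy (F := F₂) le_rfl S₂.one_mem).restrict (by rintro _ ⟨x, hx, rfl⟩; exact hx.2)).congr
          fun x _ => by group,
        fun x _ => rfl⟩)
    refine ⟨G, hG.restrict (sup_le (fun y hy => ?_) fun b hb => ?_), fun y hy => ?_, fun b hb => ?_⟩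
    · exact (mem_up (show P.prod S₂ ≤ S₁.prod S₂ from fun x hx => ⟨hPS₁ hx.1, hx.2⟩)).2 ⟨(y, 1), ⟨hy, S₂.one_mem⟩, by
        rw [hue (hPS₁ hy) S₂.one_mem, mul_one]⟩
    · exact (mem_up (show P.prod S₂ ≤ S₁.prod S₂ from fun x hx => ⟨hPS₁ hx.1, hx.2⟩)).2 ⟨(1, b), ⟨P.one_mem, hb⟩, by
        rw [hue S₁.one_mem hb, one_mul]⟩
    · have h0 := hGe (y, 1) ⟨hy, S₂.one_mem⟩
      rwa [hue (hPS₁ hy) S₂.one_mem, mul_one, hue (hf.mem hy) S₂.one_mem, mul_one] at h0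
    · have h0 := hGe (1, b) ⟨P.one_mem, hb⟩
      rwa [hue S₁.one_mem hb, one_mul, hf.map_one, hue S₁.one_mem hb, one_mul] at h0
  · have hPS₂ := hf.le
    obtain ⟨G, hG, hGe⟩ := hlift (S₁.prod P) (fun x => (x.1, f x.2)) ((prod_map_iff hD₀).2
      ⟨fun x hx => ⟨hx.1, hPS₂ hx.2⟩, fun x => x, f,
        ((map_conjBy (F := F₁) le_rfl S₁.one_mem).restrict (by rintro _ ⟨x, hx, rfl⟩; exact hx.1)).congr
          fun x _ => by group,
        hf.restrict (by rintro _ ⟨x, hx, rfl⟩; exact hx.2),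
        fun x _ => rfl⟩)
    refine ⟨G, hG.restrict (sup_le (fun y hy => ?_) fun a ha => ?_), fun y hy => ?_, fun a ha => ?_⟩
    · exact (mem_up (show S₁.prod P ≤ S₁.prod S₂ from fun x hx => ⟨hx.1, hPS₂ hx.2⟩)).2 ⟨(1, y), ⟨S₁.one_mem, hy⟩, by
        rw [hue S₁.one_mem (hPS₂ hy), one_mul]⟩
    · exact (mem_up (show S₁.prod P ≤ S₁.prod S₂ from fun x hx => ⟨hx.1, hPS₂ hx.2⟩)).2 ⟨(a, 1), ⟨ha, P.one_mem⟩, by
        rw [hue ha S₂.one_mem, mul_one]⟩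
    · have h0 := hGe (1, y) ⟨S₁.one_mem, hy⟩
      rwa [hue S₁.one_mem (hPS₂ hy), one_mul, hue S₁.one_mem (hf.mem hy), one_mul] at h0
    · have h0 := hGe (a, 1) ⟨ha, P.one_mem⟩
      rwa [hue ha S₂.one_mem, mul_one, hf.map_one, hue ha S₂.one_mem, mul_one] at h0

/-- A factor of a central product is normal. -/
theorem factor_normal (hS : IsPGroup p S) (hF : F.IsSaturated p) (h₁ : F₁.IsSaturated p)
    (h₁F : F₁.IsSubsystemOf F) (h₂F : F₂.IsSubsystemOf F) (hcomm : ∀ a ∈ S₁, ∀ b ∈ S₂, a * b = b * a)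
    (hSe : S = S₁ ⊔ S₂)
    (hdec : ∀ (P : Subgroup Ω) (f : Ω → Ω), Map F P f → ∃ A₁ A₂ g₁ g₂, Map F₁ A₁ g₁ ∧ Map F₂ A₂ g₂ ∧
      ∀ a ∈ S₁, ∀ b ∈ S₂, a * b ∈ P → a ∈ A₁ ∧ b ∈ A₂ ∧ f (a * b) = g₁ a * g₂ b)
    (hext : CentExt F₁ F S₂) : F₁.IsNormalIn F p := by
  have hS₁ : S₁ ≤ S := le_of_sub h₁F
  haveI := finite_of_le hS₁
  haveI := mulAut_finite_of_le hS₁
  have hmap : ∀ (A : Subgroup Ω) (g : Ω → Ω), A ≤ S₁ → Map F A g → Map F₁ A g := fun A g hA hg => by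
    obtain ⟨A₁, A₂, g₁, g₂, hg₁, hg₂, he⟩ := hdec A g hg
    have hA₁ : A ≤ A₁ := fun a ha => (he a (hA ha) 1 S₂.one_mem (by rwa [mul_one])).1
    refine (hg₁.restrict hA₁).congr fun a ha => ?_
    have h0 := (he a (hA ha) 1 S₂.one_mem (by rwa [mul_one])).2.2
    rw [mul_one, hg₂.map_one, mul_one] at h0
    exact h0.symm
  have hcl : F.StronglyClosed S₁ :=
    stronglyClosed_iff.2 ⟨hS₁, fun A g hA hg x hx => (hmap A g hA hg).mem hx⟩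
  have hw := weaklyNormal_self (hS.to_le hS₁) h₁
  have hinv := (isInvariantIn_iff (hS.to_le hS₁) h₁ (fun _ _ h => h) hw.2.2.2.1).1 hw.2.2
  refine ⟨⟨h₁, hF, (isInvariantIn_iff hS hF h₁F hcl).2
    fun A B f g hAB hB hf hfB hg => hinv A B f g hAB hB hf hfB (hmap B g hB hg)⟩, fun α hα => ?_⟩
  obtain ⟨G, hG, hGα, hGfix⟩ := hext S₁ _ (map_of_mem_autGroup le_rfl hα)
  have hC : centralizerIn S S₁ ≤ S₁ ⊔ S₂ := fun z hz => hSe ▸ hz.1
  have hL : S₁ ⊔ centralizerIn S S₁ ≤ S₁ ⊔ S₂ := sup_le le_sup_left hC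
  have hshift : ∀ z ∈ centralizerIn S S₁, z⁻¹ * G z ∈ S₁ ⊓ Subgroup.centralizer (S₁ : Set Ω) := by
    intro z hz
    obtain ⟨a, ha, b, hb, rfl⟩ := mem_sup_of_normalized (S := S₁) (P := S₁) (Q := S₂)
      (fun y hy => mem_normalizer_of_conj_mem (le_of_sub h₂F) fun w hw => by
        rw [hcomm y hy w hw, mul_inv_cancel_right]; exact hw) le_rfl (hC hz)
    have haz : ∀ y ∈ S₁, y * a = a * y := fun y hy => by
      have h1 := (mem_centralizerIn.1 hz).2 y hy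
      calc y * a = y * (a * b) * b⁻¹ := by group
        _ = a * (b * y) * b⁻¹ := by rw [h1]; group
        _ = a * (y * b) * b⁻¹ := by rw [hcomm y hy b hb]
        _ = a * y := by group
    have hga : G a ∈ S₁ := by rw [hGα a ha]; exact av_mem α ha
    rw [hG.map_mul (Subgroup.mem_sup_left ha) (Subgroup.mem_sup_right hb), hGfix b hb,
      hcomm a ha b hb, hcomm _ hga b hb, mul_inv_rev, mul_assoc, inv_mul_cancel_left]
    refine ⟨S₁.mul_mem (S₁.inv_mem ha) hga, Subgroup.mul_mem _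
      (Subgroup.inv_mem _ (Subgroup.mem_centralizer_iff.2 haz)) (Subgroup.mem_centralizer_iff.2 fun y hy => ?_)⟩
    have hm := map_of_mem_autGroup le_rfl hα
    rw [hGα a ha, ← av_av_inv α hy, ← hm.map_mul (av_mem α⁻¹ hy) ha, haz _ (av_mem α⁻¹ hy),
      hm.map_mul ha (av_mem α⁻¹ hy)]
  have hm := hG.restrict hL
  haveI := finite_of_le (sup_le hS₁ inf_le_left : S₁ ⊔ centralizerIn S S₁ ≤ S)
  obtain ⟨β, hβ, hβe⟩ := exists_aut hm (Subgroup.eq_of_le_of_card_ge (hm.im_sup_le.trans (sup_le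
    ((im_le_iff.2 fun x hx => by rw [hGα x hx]; exact av_mem α hx).trans le_sup_left)
    (im_le_iff.2 fun x hx => by
      rw [← mul_inv_cancel_left x (G x)]
      exact Subgroup.mul_mem _ (Subgroup.mem_sup_right hx) (Subgroup.mem_sup_left (hshift x hx).1)))) hm.card_im.ge)
  refine ⟨β, hβ, fun x => ?_, fun z hz => ?_⟩
  · show ((β ⟨x, _⟩ : ↥(S₁ ⊔ centralizerIn S S₁)) : Ω) = _
    rw [← av_apply β (Subgroup.mem_sup_left x.2), hβe x (Subgroup.mem_sup_left x.2), hGα x x.2, av_apply α x.2]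
  · rw [← av_apply β z.2, hβe z z.2]
    exact hshift z hz

/-- A component over a subgroup of a normal subsystem is subnormal in it. -/
theorem subnormal_descend : ∀ {U S : Subgroup Ω} {C : FusionSystem U} {F : FusionSystem S} {p : ℕ},
    C.IsSubnormalIn F p → ∀ [Fact p.Prime] [Finite S], IsPGroup p S → F.IsSaturated p →
      C.IsPPrimeResidual p C → ∀ {R : Subgroup Ω} {D : FusionSystem R}, D.IsNormalIn F p → U ≤ R →
        C.IsSubnormalIn D p := by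
  intro U S C F p h
  induction h with
  | refl F p =>
    intro _ _ hS hF hC R D hD hUR
    have hsub := Layer.sub_of_subnormal (IsSubnormalIn.refl F p) hS hF hC hD hUR
    obtain rfl := le_antisymm hD.1.2.2.2.1.1 hUR
    obtain rfl : D = F := eq_of_map_iff fun P f => ⟨fun h => h.of_sub hD.1.2.2.1, fun h => h.of_sub hsub⟩
    exact IsSubnormalIn.refl D p
  | step h1 h2 ih =>
    intro _ _ hS hF hC R D hD hUR
    have c : Meet.Ctx _ _ _ _ := ⟨hS, hF, h2, hD⟩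
    have hU₁ := h2.1.2.2.2.1.1
    haveI := finite_of_le hU₁
    exact (ih (hS.to_le hU₁) h2.1.1 hC c.sys_normal₁ (le_inf (le_of_sub (subnormal_sub h1)) hUR)).step
      c.sys_normal₂


/-- Components of a central product. -/
theorem component_centralProduct (hS : IsPGroup p S) (hF : F.IsSaturated p) (h₁ : F₁.IsSaturated p)
    (h₂ : F₂.IsSaturated p)
    (h₁F : F₁.IsSubsystemOf F) (h₂F : F₂.IsSubsystemOf F) (hc : IsCentralProductOf F₁ F₂ F)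
    {T : Subgroup Ω} {C : FusionSystem T} (hC : C.IsComponentIn F p) :
    C.IsComponentIn F₁ p ∨ C.IsComponentIn F₂ p := by
  obtain ⟨hcomm, hSe, hdec, hext, hext₂⟩ := centralProduct_spec h₁F h₂F hc
  have hn := factor_normal hS hF h₁ h₁F h₂F hcomm hSe hdec hext
  have h₂n : F₂.IsNormalIn F p := factor_normal hS hF h₂ h₂F h₁F (fun b hb a ha => (hcomm a ha b hb).symm)
    (hSe.trans (sup_comm S₁ S₂)) (fun P f hf => by
      obtain ⟨A₁, A₂, g₁, g₂, hg₁, hg₂, he⟩ := hdec P f hf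
      refine ⟨A₂, A₁, g₂, g₁, hg₂, hg₁, fun b hb a ha hba => ?_⟩
      rw [← hcomm a ha b hb] at hba ⊢
      obtain ⟨i₁, i₂, i₃⟩ := he a ha b hb hba
      exact ⟨i₂, i₁, i₃.trans (hcomm _ (hg₁.mem i₁) _ (hg₂.mem i₂))⟩) hext₂
  have hTS := le_of_sub (subnormal_sub hC.1)
  haveI := finite_of_le hTS
  have hres := Layer.quasisimple_isPPrimeResidual (hS.to_le hTS) hC.2
  rcases dichotomy hS hF hC hn with h | h
  · exact Or.inl ⟨subnormal_descend hC.1 hS hF hres hn h, hC.2⟩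
  refine Or.inr ⟨subnormal_descend hC.1 hS hF hres h₂n ?_, hC.2⟩
  have hS₂ : S₂ ≤ S := le_of_sub h₂F
  obtain ⟨hY, hYe⟩ := centE_centEOf hS hn
  have hS₂Y : S₂ ≤ centEOf F₁ F := by
    refine CentE.le_centEOf ⟨fun b hb => mem_centralizerIn.2 ⟨hS₂ hb, fun a ha => hcomm a ha b hb⟩, hext⟩
  conv => arg 1; rw [← hC.2.2.1]
  refine hyperfocal_sub (subnormal_sub hC.1) fun P α hP hf _ x hx => ?_
  obtain ⟨A₁, A₂, g₁, g₂, hg₁, hg₂, he⟩ := hdec P _ hf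
  have hxS : x ∈ S := hTS (hP hx)
  obtain ⟨a, ha, b, hb, rfl⟩ := mem_sup_of_normalized (S := S₁) (P := S₁) (Q := S₂)
    (fun y hy => mem_normalizer_of_conj_mem hS₂ fun w hw => by
      rw [hcomm y hy w hw, mul_inv_cancel_right]; exact hw) le_rfl (hSe ▸ hxS)
  obtain ⟨haA, hbA, hfe⟩ := he a ha b hb hx
  have haY : a ∈ centEOf F₁ F := by
    simpa using Subgroup.mul_mem _ (h (hP hx)) (Subgroup.inv_mem _ (hS₂Y hb))
  obtain ⟨G, -, hGg, hGY⟩ := hYe A₁ g₁ hg₁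
  have hga : g₁ a = a := by rw [← hGg a haA, hGY a haY]
  rw [hfe, hga, mul_inv_rev, mul_assoc, inv_mul_cancel_left]
  exact S₂.mul_mem (S₂.inv_mem hb) (hg₂.mem hbA)

end Cfsg.Agent.Local.FS.Commute
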