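import Cfsg.Agent.Lib.Local.FS.ConstrainedComponent
import Cfsg.Agent.Lib.Local.FS.Quotient
import Cfsg.Agent.Lib.Local.FS.Solvable
import Cfsg.Agent.Lib.Local.FS.InvariantCriterion
import Cfsg.Agent.Lib.Local.FS.Layer.Residual

/-!
A normal subsystem of a quasisimple system is over the whole group or over a central subgroup.
-/

set_option autoImplicit false

namespace Cfsg.Agent.Local.FS.Commute

open Cfsg Cfsg.FusionSystem Cfsg.Agent.Fusion Cfsg.Agent.Local.FS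

section Img

variable {Ω Ω' : Type*} [Group Ω] [Group Ω'] {S S₀ : Subgroup Ω} [Finite S] {F : FusionSystem S}

theorem imgMap_injective (hS₀ : F.StronglyClosed S₀) {θ : S →* Ω'} (hker : ∀ s : S, θ s = 1 ↔ (s : Ω) ∈ S₀)
    {P' : Subgroup Ω'} {φ' : P' →* Ω'} (hP' : P' ≤ θ.range) (h : FMap F θ φ') :
    Function.Injective φ' := by
  obtain ⟨f, hf, h⟩ := h
  refine (injective_iff_map_eq_one φ').2 ?_
  rintro ⟨a, ha⟩ he
  obtain ⟨x, rfl⟩ := hP' ha
  have hx : (x : Ω) ∈ preimageAlong θ P' := mem_preimageAlong.2 ⟨x.2, ha⟩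
  rw [h x ha (hf.mem hx), hker] at he
  exact Subtype.ext ((hker x).2
    ((stronglyClosed_mem_iff hS₀ hf (le_preimageAlong hS₀.1 hker P') hx).1 he))

/-- The factor system over the range. -/
def imgSys (hS₀ : F.StronglyClosed S₀) (θ : S →* Ω') (hker : ∀ s : S, θ s = 1 ↔ (s : Ω) ∈ S₀) :
    FusionSystem θ.range where
  Hom P' := {φ' | P' ≤ θ.range ∧ FMap F θ φ'}
  le_of_mem := by
    rintro P' φ' ⟨hP', f, hf, h⟩
    refine ⟨hP', fun a => ?_⟩
    obtain ⟨x, hx⟩ := hP' a.2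
    obtain ⟨a, ha⟩ := a
    obtain rfl := hx
    rw [h x ha (hf.mem (mem_preimageAlong.2 ⟨x.2, ha⟩))]
    exact ⟨_, rfl⟩
  injective_of_mem h := imgMap_injective hS₀ hker h.1 h.2
  conj_mem := by
    intro P' g' hP' hg'
    obtain ⟨g, rfl⟩ := hg'
    refine ⟨hP', fun x => (g : Ω) * x * (g : Ω)⁻¹,
      map_conjBy (fun x hx => (mem_preimageAlong.1 hx).1) g.2, fun x hx hfx => ?_⟩
    show θ g * θ x * (θ g)⁻¹ = _
    rw [← map_inv, ← map_mul, ← map_mul]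
    rfl
  comp_mem := by
    rintro P' R' φ' ψ' ⟨hP', f, hf, h⟩ ⟨-, g, hg, k⟩ hm
    refine ⟨hP', g ∘ f, hf.comp hg fun x hx => ?_, fun x hx hfx => ?_⟩
    · obtain ⟨hxS, hx'⟩ := mem_preimageAlong.1 hx
      refine mem_preimageAlong.2 ⟨hf.mem hx, ?_⟩
      rw [← h ⟨x, hxS⟩ hx' (hf.mem hx)]
      exact hm _
    · have hx' : (x : Ω) ∈ preimageAlong θ P' := mem_preimageAlong.2 ⟨x.2, hx⟩
      have h1 := h x hx (hf.mem hx')
      have h2 : θ ⟨f x, hf.mem hx'⟩ ∈ R' := by rw [← h1]; exact hm _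
      show ψ' ⟨φ' ⟨θ x, hx⟩, hm _⟩ = _
      refine (congrArg ψ' (Subtype.ext h1 : (⟨φ' ⟨θ x, hx⟩, hm _⟩ : R') = ⟨_, h2⟩)).trans ?_
      exact k ⟨f x, hf.mem hx'⟩ h2 hfx
  inv_mem := by
    rintro P' φ' ⟨hP', hφ'⟩
    have hinj := imgMap_injective hS₀ hker hP' hφ'
    obtain ⟨f, hf, h⟩ := hφ'
    let e := MonoidHom.ofInjective hinj
    have he : ∀ x : P', e.symm ⟨φ' x, x, rfl⟩ = x := fun x =>
      e.injective (by rw [e.apply_symm_apply]; rfl)
    obtain ⟨g, hg, hgf, -, -⟩ := hf.exists_inv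
    have hsub := le_preimageAlong hS₀.1 hker P'
    have hrange : φ'.range ≤ θ.range := by
      rintro _ ⟨⟨a, ha⟩, rfl⟩
      obtain ⟨x, rfl⟩ := hP' ha
      rw [h x ha (hf.mem (mem_preimageAlong.2 ⟨x.2, ha⟩))]
      exact ⟨_, rfl⟩
    have hle : preimageAlong θ φ'.range ≤ im (preimageAlong θ P') f := by
      intro y hy
      obtain ⟨hyS, ⟨a, ha⟩, hay⟩ := mem_preimageAlong.1 hy
      obtain ⟨x, rfl⟩ := hP' ha
      have hx : (x : Ω) ∈ preimageAlong θ P' := mem_preimageAlong.2 ⟨x.2, ha⟩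
      rw [h x ha (hf.mem hx)] at hay
      have h1 : θ (⟨f x, hf.mem hx⟩⁻¹ * ⟨y, hyS⟩) = 1 := by rw [map_mul, map_inv, hay, inv_mul_cancel]
      have h2 : (f x)⁻¹ * y ∈ S₀ := (hker _).1 h1
      obtain ⟨z, hz, hze⟩ := (hf.restrict hsub).surj_of_card_le hS₀.1
        (fun z hz => stronglyClosed_map hS₀ hf (hsub hz) hz) le_rfl _ h2
      exact hf.mem_im.2 ⟨x * z, Subgroup.mul_mem _ hx (hsub hz),
        by rw [hf.map_mul hx (hsub hz), hze, mul_inv_cancel_left]⟩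
    refine ⟨P'.subtype.comp e.symm.toMonoidHom, ⟨hrange, g, hg.restrict hle, ?_⟩,
      fun x => congrArg Subtype.val (he x)⟩
    intro y hy hgy
    obtain ⟨z, hz, hzy⟩ := hf.mem_im.1 (hle (mem_preimageAlong.2 ⟨y.2, hy⟩))
    obtain ⟨hzS, hz'⟩ := mem_preimageAlong.1 hz
    have h1 := h ⟨z, hzS⟩ hz' (hf.mem hz)
    have h2 : θ ⟨f z, hf.mem hz⟩ = θ y := congrArg θ (Subtype.ext hzy)
    have h3 : (⟨θ y, hy⟩ : φ'.range) = ⟨φ' ⟨θ ⟨z, hzS⟩, hz'⟩, _, rfl⟩ :=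
      Subtype.ext (h2.symm.trans h1.symm)
    show ((e.symm ⟨θ y, hy⟩ : P') : Ω') = _
    rw [h3, he]
    refine congrArg θ (Subtype.ext ?_)
    show z = g (y : Ω)
    rw [← hzy, hgf z hz]

theorem imgSys_isFactor (hS₀ : F.StronglyClosed S₀) (θ : S →* Ω') (hker : ∀ s : S, θ s = 1 ↔ (s : Ω) ∈ S₀) :
    F.IsFactorSystem S₀ θ (imgSys hS₀ θ hker) :=
  ⟨hS₀.1, hker, rfl, fun _ _ => and_congr_right fun _ => fmap_iff⟩

end Img

variable {Ω : Type*} [Group Ω] {Ω' : Type*} [Group Ω'] {U R Z : Subgroup Ω} {U' : Subgroup Ω'}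
  {C : FusionSystem U} {D : FusionSystem R} {E : FusionSystem U'} {θ : U →* Ω'} {p : ℕ}
  [Finite U] [Fact p.Prime]

/-- The image of a weakly normal subsystem in a central factor. -/
theorem exists_image (hU : IsPGroup p U) (hC : C.IsSaturated p) (hZ : C.StronglyClosed Z)
    (hZc : Z ≤ C.center) (hE : C.IsFactorSystem Z θ E) (hD : D.IsWeaklyNormalIn C p) :
    ∃ (R' : Subgroup Ω') (D' : FusionSystem R'), R' = imageAlong θ R ∧ D'.IsWeaklyNormalIn E p := by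
  obtain ⟨hDs, -, hDi⟩ := id hD
  have hR := hDi.2.1
  haveI := finite_of_le hR.1
  haveI := fac_finite hE
  obtain ⟨θR, hθR⟩ : ∃ θR : R →* Ω', θR = θ.comp (Subgroup.inclusion hR.1) := ⟨_, rfl⟩
  have hue : ∀ x ∈ R, ue θR x = ue θ x := fun x hx => by
    rw [ue_apply hx, ue_apply (hR.1 hx), hθR]; rfl
  have hker : ∀ s : R, θR s = 1 ↔ (s : Ω) ∈ R ⊓ Z := fun s => by
    rw [hθR]
    exact (hE.2.1 ⟨s, hR.1 s.2⟩).trans (iff_and_self.2 fun _ => s.2)
  have hsc : D.StronglyClosed (R ⊓ Z) := stronglyClosed_iff.2 ⟨inf_le_left, fun P f hP hf x hx =>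
    ⟨hf.mem hx, stronglyClosed_map hZ (hf.of_sub hDi.1) hx (hP hx).2⟩⟩
  have hE' := imgSys_isFactor hsc θR hker
  set D' := imgSys hsc θR hker
  have hR' : θR.range = imageAlong θ R := by
    ext a
    rw [show (imageAlong θ R : Subgroup Ω') = up θ R from rfl, mem_up hR.1]
    constructor
    · rintro ⟨x, rfl⟩; exact ⟨x, x.2, (hue x x.2).symm.trans (ue_coe x)⟩
    · rintro ⟨x, hx, rfl⟩; exact ⟨⟨x, hx⟩, (ue_coe ⟨x, hx⟩).symm.trans (hue x hx)⟩
  have hpre : ∀ {A : Subgroup Ω'} {x : Ω}, x ∈ preimageAlong θR A ↔ x ∈ preimageAlong θ A ∧ x ∈ R := by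
    intro A x
    rw [fac_mem_pre, fac_mem_pre]
    exact ⟨fun ⟨h, h'⟩ => ⟨⟨hR.1 h, hue x h ▸ h'⟩, h⟩, fun ⟨⟨_, h'⟩, h⟩ => ⟨h, (hue x h).symm ▸ h'⟩⟩
  have hsup := stronglyClosed_sup hU hC hR hZ
  have hclU : E.StronglyClosed θR.range := by
    have h1 := fac_stronglyClosed_up hZ hE hsup le_sup_right
    have h2 : imageAlong θ (R ⊔ Z) = imageAlong θ R := by
      refine le_antisymm ?_ (Subgroup.map_mono (Subgroup.comap_mono le_sup_left))
      intro a ha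
      obtain ⟨x, hx, rfl⟩ := (mem_up (i := θ) hsup.1).1 ha
      obtain ⟨r, hr, z, hz, rfl⟩ := mem_sup_of_normalized (stronglyClosed_le_normalizer hZ) hR.1 hx
      rw [ue_mul (hR.1 hr) (hZ.1 hz), (fac_ue_eq_one hE (hZ.1 hz)).2 hz, mul_one]
      exact ue_mem_up hR.1 hr
    rwa [h2, ← hR'] at h1
  have hlift : ∀ {A : Subgroup Ω'}, A ≤ θR.range → preimageAlong θ A ≤ preimageAlong θR A ⊔ Z := by
    intro A hA x hx
    obtain ⟨hxU, hxA⟩ := fac_mem_pre.1 hx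
    obtain ⟨⟨r, hr⟩, hre⟩ := hA hxA
    rw [← ue_apply hr, hue r hr] at hre
    have hrA : r ∈ preimageAlong θR A := hpre.2 ⟨fac_mem_pre.2 ⟨hR.1 hr, hre ▸ hxA⟩, hr⟩
    have h1 : r⁻¹ * x ∈ Z := (fac_ue_eq_one hE (U.mul_mem (U.inv_mem (hR.1 hr)) hxU)).1 (by
      rw [ue_mul (U.inv_mem (hR.1 hr)) hxU, ue_inv (hR.1 hr), hre, inv_mul_cancel])
    simpa using Subgroup.mul_mem_sup hrA h1
  have hsub : D'.IsSubsystemOf E := fun A φ hφ => by
    obtain ⟨hA, f, hf, hff⟩ := fac_lift hE' hsc (map_of_mem hφ)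
    obtain ⟨g, hg, hgf, hgZ⟩ := centExt_center (F := C) hZc _ f (hf.of_sub hDi.1)
    refine (fac_map_of hE hZ (hA.trans hclU.1) (hg.restrict (hlift hA)) fun x hx => ?_).mem_hom
      fun x => (fn_coe φ x).symm
    obtain ⟨r, hr, z, hz, rfl⟩ := mem_sup_of_normalized (stronglyClosed_le_normalizer hZ)
      ((preimage_le (i := θR) A).trans hR.1) (hlift hA hx)
    have hrU := hR.1 (hpre.1 hr).2
    have hgr : g r ∈ R := by rw [hgf r hr]; exact hf.mem hr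
    rw [hg.map_mul (Subgroup.mem_sup_left hr) (Subgroup.mem_sup_right hz), hgZ z hz,
      ue_mul (hR.1 hgr) (hZ.1 hz), (fac_ue_eq_one hE (hZ.1 hz)).2 hz, mul_one, ← hue _ hgr, hgf r hr,
      hff r hr, ue_mul hrU (hZ.1 hz), (fac_ue_eq_one hE (hZ.1 hz)).2 hz, mul_one, hue r (hpre.1 hr).2]
  refine ⟨θR.range, D', hR', fac_saturated (hU.to_le hR.1) hDs hsc hE', fac_saturated hU hC hZ hE,
    (isInvariantIn_iff (fac_isPGroup hE hU) (fac_saturated hU hC hZ hE) hsub hclU).2 ?_⟩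
  intro A B f g hAB hB hf hfB hg
  obtain ⟨hA', f₀, hf₀, hff⟩ := fac_lift hE' hsc hf
  obtain ⟨hB', g₀, hg₀, hgg⟩ := fac_lift hE hZ hg
  have hpreR : ∀ {A : Subgroup Ω'}, preimageAlong θR A ≤ preimageAlong θ A := fun {A} x hx => (hpre.1 hx).1
  have hmem : ∀ x ∈ preimageAlong θR A, f₀ x ∈ preimageAlong θR B := fun x hx =>
    fac_mem_pre.2 ⟨hf₀.mem hx, hff x hx ▸ hfB _ (fac_mem_pre.1 hx).2⟩
  have hAB' : preimageAlong θR A ≤ preimageAlong θR B := fun x hx =>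
    fac_mem_pre.2 ⟨(fac_mem_pre.1 hx).1, hAB (fac_mem_pre.1 hx).2⟩
  obtain ⟨h₀, hh₀, hh⟩ := (isInvariantIn_iff hU hC hDi.1 hR).1 hDi _ _ f₀ g₀ hAB' (preimage_le B) hf₀ hmem
    (hg₀.restrict hpreR)
  have hABθ : preimageAlong θ A ≤ preimageAlong θ B := fun x hx =>
    fac_mem_pre.2 ⟨(fac_mem_pre.1 hx).1, hAB (fac_mem_pre.1 hx).2⟩
  have hgA := hg₀.restrict hABθ
  have him' := fac_im hE hZ hgA (hg.restrict hAB) fun x hx => hgg x (hABθ hx)
  have him : preimageAlong θR (im A g) = im (preimageAlong θR A) g₀ := by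
    refine le_antisymm (fun y hy => ?_) (im_le_iff.2 fun x hx => hpre.2
      ⟨him'.ge (mem_im_of_mem (hpreR hx)), stronglyClosed_map hR hgA (hpreR hx) (hpre.1 hx).2⟩)
    obtain ⟨hy', hyR⟩ := hpre.1 hy
    obtain ⟨x, hx, rfl⟩ := hgA.mem_im.1 (him'.le hy')
    obtain ⟨l, hl, hlg, -, -⟩ := hgA.exists_inv
    refine mem_im_of_mem (hpre.2 ⟨hx, ?_⟩)
    rw [← hlg x hx]
    exact stronglyClosed_map hR hl (mem_im_of_mem hx) hyR
  rw [← him] at hh₀
  have hgA' := hg.restrict hAB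
  have himA : im A g ≤ θR.range := im_le_iff.2 fun a ha => stronglyClosed_map hclU hgA' ha (hA' ha)
  refine ⟨_, fac_induced hE' hsc himA hh₀, fun a ha => ?_⟩
  obtain ⟨x, hx, rfl⟩ := fac_exists_pre hE' hA' ha
  have hxR := (hpre.1 hx).2
  have hxB : x ∈ preimageAlong θ B := hpreR (hAB' hx)
  have hgx : g₀ x ∈ preimageAlong θR (im A g) := him.ge (mem_im_of_mem hx)
  have e1 : ue θR (g₀ x) = g (ue θR x) := by rw [hue _ (hpre.1 hgx).2, hue x hxR, hgg x hxB]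
  show ue θR (h₀ (ve θR (g (ue θR x)))) = g (f (ue θR x))
  have hv : ve θR (g (ue θR x)) ∈ preimageAlong θR (im A g) :=
    fac_mem_pre.2 ⟨ve_mem, (fac_ue_ve hE' (himA (mem_im_of_mem ha))).symm ▸ mem_im_of_mem ha⟩
  rw [fac_congr hE' hsc hh₀ (fac_le_pre hE') hv hgx
    ((fac_ue_ve hE' (himA (mem_im_of_mem ha))).trans e1.symm), hh x hx, ← hff x hx]
  have hfx : g₀ (f₀ x) ∈ R := stronglyClosed_map hR hg₀ (hpreR (hmem x hx)) (hpre.1 (hmem x hx)).2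
  rw [hue _ hfx, hue _ (hpre.1 (hmem x hx)).2, hgg _ (hpreR (hmem x hx))]

/-- A normal subsystem of a quasisimple system is over the whole group or over a central subgroup. -/
theorem quasisimple_normal (hU : IsPGroup p U) (hq : C.Quasisimple p) (hD : D.IsWeaklyNormalIn C p) :
    R = U ∨ R ≤ C.center := by
  obtain ⟨hC, hhyp, hsim⟩ := hq
  have hR := hD.2.2.2.1
  have hZ := stronglyClosed_center C
  set θ := QuotientGroup.mk' ((C.center).subgroupOf U) with hθ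
  have hker : ∀ s : U, θ s = 1 ↔ (s : Ω) ∈ C.center := fun s =>
    (QuotientGroup.eq_one_iff s).trans Subgroup.mem_subgroupOf
  have hsurj : Function.Surjective θ := QuotientGroup.mk'_surjective _
  set E := factorSys hZ θ hker hsurj
  have hE : C.IsFactorSystem C.center θ E := ⟨hZ.1, hker, MonoidHom.range_eq_top.2 hsurj,
    fun P' φ' => fmap_iff.trans (and_iff_right le_top).symm⟩
  obtain ⟨hEs, -, hnorm⟩ := hsim E hE
  haveI := fac_finite hE
  obtain ⟨R', D', hR', hD'⟩ := exists_image hU hC hZ le_rfl hE hD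
  have hU' := fac_isPGroup hE hU
  haveI := finite_of_le hD'.2.2.2.1.1
  have hn := primeResidual_isNormalIn hU' hD'
    (isPPrimeResidual_primeRes (hU'.to_le hD'.2.2.2.1.1) hD'.1)
  obtain h0 | ⟨htop, -⟩ := hnorm _ _ hn
  · refine Or.inr fun x hx => (fac_ue_eq_one hE (hR.1 hx)).1 ?_
    have h1 := ue_mem_up (i := θ) hR.1 hx
    rw [show up θ R = R' from hR'.symm, h0] at h1
    exact Subgroup.mem_bot.1 h1
  · refine Or.inl (le_antisymm hR.1 ?_)
    have hsplit : ∀ x ∈ U, ∃ r ∈ R, r⁻¹ * x ∈ C.center := fun x hx => by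
      have h1 : ue θ x ∈ up θ R := by
        rw [show up θ R = R' from hR'.symm, htop]; exact Subgroup.mem_top _
      obtain ⟨r, hr, hre⟩ := (mem_up (i := θ) hR.1).1 h1
      exact ⟨r, hr, (fac_ue_eq_one hE (U.mul_mem (U.inv_mem (hR.1 hr)) hx)).1 (by
        rw [ue_mul (U.inv_mem (hR.1 hr)) hx, ue_inv (hR.1 hr), hre, inv_mul_cancel])⟩
    conv => arg 1; rw [← hhyp]
    refine (Subgroup.closure_le _).2 ?_
    rintro _ ⟨P, α, x, hP, -, rfl⟩
    obtain ⟨r, hr, hz⟩ := hsplit x (hP x.2)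
    obtain ⟨g, hg, hgf, hgZ⟩ := centExt_center (F := C) le_rfl P _ (map_of_mem_autGroup hP α.2)
    have hrP : r ∈ P ⊔ C.center := by
      have h1 := Subgroup.mul_mem _ (Subgroup.mem_sup_left (T := C.center) x.2)
        (Subgroup.inv_mem _ (Subgroup.mem_sup_right (S := P) hz))
      simpa using h1
    show (x : Ω)⁻¹ * (((α : MulAut P) x : P) : Ω) ∈ R
    rw [← av_coe, ← hgf x x.2]
    have e : g (x : Ω) = g r * (r⁻¹ * x) := by
      conv_lhs => rw [← mul_inv_cancel_left r (x : Ω)]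
      rw [hg.map_mul hrP (Subgroup.mem_sup_right hz), hgZ _ hz]
    have hgr : g r ∈ R := stronglyClosed_map hR hg hrP hr
    have hcm : ∀ w ∈ U, (r⁻¹ * x) * w = w * (r⁻¹ * x) := fun w hw =>
      ((C.center_le_centralizer hz) w hw).symm
    have e2 : (x : Ω)⁻¹ * (g r * (r⁻¹ * x)) = r⁻¹ * g r := by
      calc (x : Ω)⁻¹ * (g r * (r⁻¹ * x)) = (r⁻¹ * x)⁻¹ * ((r⁻¹ * g r) * (r⁻¹ * x)) := by group
        _ = (r⁻¹ * x)⁻¹ * ((r⁻¹ * x) * (r⁻¹ * g r)) := by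
          rw [hcm _ (U.mul_mem (U.inv_mem (hR.1 hr)) (hR.1 hgr))]
        _ = r⁻¹ * g r := inv_mul_cancel_left _ _
    rw [e, e2]
    exact R.mul_mem (R.inv_mem hr) hgr

end Cfsg.Agent.Local.FS.Commute
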