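import Cfsg.Agent.Lib.Local.FS.Commute.Spread
import Cfsg.Agent.Lib.Local.FS.Commute.Image
import Cfsg.Agent.Lib.Local.FS.CentralizerSystemNormal
import Cfsg.Agent.Lib.Local.FS.Layer.Exists

/-!
A component lies in a given normal subsystem or centralizes it.
-/

set_option autoImplicit false

namespace Cfsg.Agent.Local.FS.Commute

open Cfsg Cfsg.FusionSystem Cfsg.Agent.Fusion Cfsg.Agent.Local.FS Cfsg.Agent.Local.FS.Meet

universe u

variable {Ω : Type u} [Group Ω] {S V R U P : Subgroup Ω} {F : FusionSystem S} {N : FusionSystem V}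
  {D : FusionSystem R} {C : FusionSystem U} {p : ℕ} [Finite S] [Fact p.Prime]

/-- An automorphism of order prime to `p` in `N` extends by the identity on `R`. -/
theorem Ctx.ext_fix (c : Ctx F N R p) {α : MulAut P} (hf : Map N P (av α))
    (hα : (orderOf α).Coprime p) :
    ∃ g, Map F (P ⊔ R) g ∧ (∀ x ∈ P, g x = av α x) ∧ ∀ r ∈ R, g r = r := by
  haveI := finite_of_le c.tV.1
  haveI := finite_of_le hf.le
  obtain ⟨g, hg, hgf, hgW, hgR⟩ := c.ext hf
  have hgr : ∀ r ∈ R, g r ∈ R := fun r hr => by simpa using R.mul_mem hr (hgR r hr).2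
  haveI := finite_of_le hg.le
  obtain ⟨a, ha, hag⟩ := exists_aut hg (Subgroup.eq_of_le_of_card_ge (hg.im_sup_le.trans (sup_le_sup
    (im_le_iff.2 fun x hx => by rw [hgf x hx]; exact av_mem α hx) (im_le_iff.2 hgr))) hg.card_im.ge)
  have hpow : ∀ n : ℕ, (∀ x ∈ P, av (a ^ n) x = av (α ^ n) x) ∧ (∀ w ∈ V ⊓ R, av (a ^ n) w = w) ∧
      ∀ r ∈ R, r⁻¹ * av (a ^ n) r ∈ V ⊓ R := by
    intro n
    induction n with
    | zero =>
      refine ⟨fun x hx => ?_, fun w hw => ?_, fun r hr => ?_⟩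
      · rw [pow_zero, pow_zero, av_one (Subgroup.mem_sup_left hx), av_one hx]
      · rw [pow_zero, av_one (Subgroup.mem_sup_right hw.2)]
      · rw [pow_zero, av_one (Subgroup.mem_sup_right hr), inv_mul_cancel]; exact Subgroup.one_mem _
    | succ n ih =>
      obtain ⟨h1, h2, h3⟩ := ih
      refine ⟨fun x hx => ?_, fun w hw => ?_, fun r hr => ?_⟩
      · rw [pow_succ', av_mul _ _ (Subgroup.mem_sup_left hx), h1 x hx,
          hag _ (Subgroup.mem_sup_left (av_mem _ hx)), hgf _ (av_mem _ hx), pow_succ', av_mul _ _ hx]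
      · rw [pow_succ', av_mul _ _ (Subgroup.mem_sup_right hw.2), h2 w hw, hag w (Subgroup.mem_sup_right hw.2),
          hgW w hw]
      · rw [pow_succ', av_mul _ _ (Subgroup.mem_sup_right hr)]
        have hb : av (a ^ n) r ∈ R := by simpa using R.mul_mem hr (h3 r hr).2
        rw [hag _ (Subgroup.mem_sup_right hb)]
        simpa [mul_assoc] using Subgroup.mul_mem _ (h3 r hr) (hgR _ hb)
  obtain ⟨m, hm, hmα⟩ : ∃ m : ℕ, (orderOf (a ^ m)).Coprime p ∧ α ^ m = α := by
    obtain ⟨i, r, hr, hord⟩ := Nat.exists_eq_pow_mul_and_not_dvd (orderOf_pos a).ne' p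
      (Fact.out : p.Prime).ne_one
    have hro : r.Coprime p := ((Nat.Prime.coprime_iff_not_dvd Fact.out).2 hr).symm
    rcases Nat.lt_or_ge 1 (orderOf α) with h1 | h1
    swap
    · exact ⟨0, by simp, by
        rw [pow_zero, eq_comm, ← orderOf_eq_one_iff]; exact le_antisymm h1 (orderOf_pos α)⟩
    obtain ⟨k, -, hk⟩ := Nat.exists_mul_mod_eq_one_of_coprime (hα.symm.pow_left i) h1
    refine ⟨p ^ i * k, hro.coprime_dvd_left (orderOf_dvd_of_pow_eq_one ?_), ?_⟩
    · rw [← pow_mul, show p ^ i * k * r = orderOf a * k by rw [hord]; ring, pow_mul, pow_orderOf_eq_one, one_pow]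
    · rw [← pow_mod_orderOf, hk, pow_one]
  obtain ⟨h1, h2, h3⟩ := hpow m
  have hmm : Map F (P ⊔ R) (av (a ^ m)) := map_of_mem_autGroup hg.le (Subgroup.pow_mem _ ha _)
  refine ⟨av (a ^ m), hmm, fun x hx => (h1 x hx).trans (by rw [hmα]), fun r hr => ?_⟩
  obtain ⟨w, hw⟩ : ∃ w, w = r⁻¹ * av (a ^ m) r := ⟨_, rfl⟩
  have hwW : w ∈ V ⊓ R := hw ▸ h3 r hr
  have hrw : av (a ^ m) r = r * w := by rw [hw, mul_inv_cancel_left]
  have hind : ∀ n : ℕ, av ((a ^ m) ^ n) r = r * w ^ n := by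
    intro n
    induction n with
    | zero => rw [pow_zero, pow_zero, av_one (Subgroup.mem_sup_right hr), mul_one]
    | succ n ih =>
      have hwn : w ^ n ∈ V ⊓ R := Subgroup.pow_mem _ hwW n
      rw [pow_succ', av_mul _ _ (Subgroup.mem_sup_right hr), ih,
        hmm.map_mul (Subgroup.mem_sup_right hr) (Subgroup.mem_sup_right hwn.2), hrw, h2 _ hwn, pow_succ',
        mul_assoc]
  have h4 := hind (orderOf (a ^ m))
  rw [pow_orderOf_eq_one, av_one (Subgroup.mem_sup_right hr), eq_comm, mul_eq_left] at h4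
  obtain ⟨k, hk⟩ := c.pS ⟨w, c.tR.1 hwW.2⟩
  have h5 : w = 1 := orderOf_eq_one_iff.1 (Nat.eq_one_of_dvd_coprimes (hm.pow_right k)
    (orderOf_dvd_of_pow_eq_one h4) (orderOf_dvd_of_pow_eq_one (congrArg Subtype.val hk)))
  rw [hrw, h5, mul_one]

omit [Finite S] [Fact p.Prime] in
/-- The generators of the hyperfocal subgroup. -/
theorem hyperfocal_sub {K : Subgroup Ω} (hC : C.IsSubsystemOf N) [Finite U]
    (h : ∀ (P : Subgroup Ω) (α : MulAut P), P ≤ U → Map N P (av α) → (orderOf α).Coprime p →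
      ∀ x ∈ P, x⁻¹ * av α x ∈ K) :
    C.hyperfocalSubgroup p ≤ K := by
  refine (Subgroup.closure_le _).2 ?_
  rintro _ ⟨P, α, x, hP, hα, rfl⟩
  suffices key : ∀ y ∈ P, y⁻¹ * av (α : MulAut P) y ∈ K by
    have := key x x.2
    rwa [av_coe] at this
  clear x
  induction hα using Subgroup.closure_induction with
  | mem β hβ =>
    intro y hy
    exact h P (β : MulAut P) hP ((map_of_mem_autGroup hP β.2).of_sub hC)
      (by rw [Subgroup.orderOf_coe]; exact hβ) y hy
  | one => intro y hy; rw [OneMemClass.coe_one, av_one hy, inv_mul_cancel]; exact K.one_mem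
  | mul a b _ _ iha ihb =>
    intro y hy
    rw [Subgroup.coe_mul, av_mul _ _ hy]
    have h1 := K.mul_mem (ihb y hy) (iha _ (av_mem (b : MulAut P) hy))
    rwa [mul_assoc, mul_inv_cancel_left] at h1
  | inv a _ iha =>
    intro y hy
    have h1 := K.inv_mem (iha _ (av_mem (a : MulAut P)⁻¹ hy))
    rw [av_av_inv _ hy, mul_inv_rev, inv_inv] at h1
    rwa [Subgroup.coe_inv]

/-- A perfect subsystem of `N` centralizes a normal subsystem over `R`. -/
theorem cent_of_spread (c : Ctx F N R p) (hD : D.IsNormalIn F p) (hC : C.IsSubsystemOf N)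
    (hhyp : C.hyperfocalSubgroup p = U) : U ≤ centEOf D F := by
  have hUV := le_of_sub hC
  have hVS := c.tV.1
  haveI := finite_of_le (hUV.trans hVS)
  have h1 : U ≤ centralizerIn S R := by
    conv => arg 1; rw [← hhyp]
    refine hyperfocal_sub hC fun P α hP hf hα x hx => ?_
    obtain ⟨g, hg, hgf, hgr⟩ := c.ext_fix hf hα
    have hxV := hUV (hP hx)
    have hαx : av α x ∈ U := hP (av_mem α hx)
    refine mem_centralizerIn.2 ⟨hVS (hUV (U.mul_mem (U.inv_mem (hP hx)) hαx)), fun r hr => ?_⟩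
    obtain ⟨w, hw⟩ : ∃ w, w = r * x * r⁻¹ * x⁻¹ := ⟨_, rfl⟩
    have hwW : w ∈ V ⊓ R := by
      refine hw ▸ ⟨V.mul_mem (stronglyClosed_conj_mem c.tV (c.tR.1 hr) hxV) (V.inv_mem hxV), ?_⟩
      have h := R.mul_mem hr (stronglyClosed_conj_mem c.tR (hVS hxV) (R.inv_mem hr))
      simpa [mul_assoc] using h
    have e1 : g (r * x * r⁻¹) = r * av α x * r⁻¹ := by
      rw [hg.map_conj (Subgroup.mem_sup_right hr) (Subgroup.mem_sup_left hx), hgr r hr, hgf x hx]
    rw [show r * x * r⁻¹ = w * x by rw [hw]; group,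
      hg.map_mul (Subgroup.mem_sup_right hwW.2) (Subgroup.mem_sup_left hx), hgr w hwW.2, hgf x hx] at e1
    have e2 : r * (x⁻¹ * av α x) * r⁻¹ = x⁻¹ * av α x := by
      calc r * (x⁻¹ * av α x) * r⁻¹ = (r * x * r⁻¹)⁻¹ * (r * av α x * r⁻¹) := by group
        _ = (w * x)⁻¹ * (w * av α x) := by rw [← e1, hw]; group
        _ = x⁻¹ * av α x := by group
    exact mul_inv_eq_iff_eq_mul.1 e2
  obtain ⟨A, hA⟩ : ∃ A : Set Ω, A = {v | ∃ x φ, x ∈ centralizerIn S R ∧ Map F (R ⊔ Subgroup.zpowers x) φ ∧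
      (∀ r ∈ R, φ r = r) ∧ v = x⁻¹ * φ x} := ⟨_, rfl⟩
  refine le_trans ?_ (focal_centE c.pS hD (V := A) fun v hv => by rw [hA] at hv; exact hv).le_centEOf
  conv => arg 1; rw [← hhyp]
  refine hyperfocal_sub hC fun P α hP hf hα x hx => ?_
  obtain ⟨g, hg, hgf, hgr⟩ := c.ext_fix hf hα
  refine Subgroup.subset_closure ?_
  rw [hA]
  exact ⟨x, g, h1 (hP hx), hg.restrict (sup_le le_sup_right (Subgroup.zpowers_le.2 (Subgroup.mem_sup_left hx))),
    hgr, by rw [hgf x hx]⟩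

/-- A component lies in a normal subsystem or centralizes it. -/
theorem dichotomy_aux : ∀ {U S : Subgroup Ω} {C : FusionSystem U} {F : FusionSystem S} {p : ℕ},
    C.IsSubnormalIn F p → ∀ [Fact p.Prime] [Finite S], IsPGroup p S → F.IsSaturated p → C.Quasisimple p →
      ∀ {R : Subgroup Ω} {D : FusionSystem R}, D.IsNormalIn F p → U ≤ R ∨ U ≤ centEOf D F := by
  intro U S C F p h
  induction h with
  | refl F p =>
    intro _ _ hS hF hq R D hD
    rcases quasisimple_normal hS hq hD.1 with h | h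
    · exact Or.inl h.ge
    refine Or.inr (cent_of_spread (N := F) ⟨hS, hF, Layer.normal_self hS hF, hD.1.2.2.2.1, fun P f hf => ?_⟩
      hD (fun _ _ h => h) hq.2.1)
    obtain ⟨g, hg, hgf, hgR⟩ := centExt_center (F := F) h P f hf
    exact ⟨g, hg.restrict (sup_le_sup_left inf_le_right P), hgf, fun w hw => hgR w hw.2⟩
  | @step M₀ S C M F p h1 h2 ih =>
    intro _ _ hS hF hq R D hD
    have c : Meet.Ctx F M D p := ⟨hS, hF, h2, hD⟩
    have hMS := h2.1.2.2.2.1.1
    haveI := finite_of_le hMS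
    have hC : C.IsComponentIn F p := ⟨h1.step h2, hq⟩
    rcases ih (hS.to_le hMS) h2.1.1 hq c.sys_normal₁ with h | h
    · exact Or.inl (h.trans inf_le_right)
    by_cases hR : U ≤ R
    · exact Or.inl hR
    have hle : centEOf c.sys M ≤ centEOf c.sys F := by
      refine CentE.le_centEOf ?_
      obtain ⟨hy, hext⟩ := centE_centEOf (hS.to_le hMS) c.sys_normal₁
      refine ⟨hy.trans (inf_le_inf_right _ hMS), fun P f hf => ?_⟩
      obtain ⟨g, hg, hgf, hgY⟩ := hext P f hf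
      exact ⟨g, hg.of_sub h2.1.2.2.1, hgf, hgY⟩
    obtain ⟨K, hK, hKc⟩ := exists_centralizer_system hS c.sys_normal
    have c' : Meet.Ctx F K M p := ⟨hS, hF, hK, h2⟩
    have hTM : U ≤ M₀ := le_of_sub (subnormal_sub h1)
    have hCN : C.IsSubsystemOf c'.sys :=
      Layer.component_sub hS hF hC c'.sys_normal (le_inf (h.trans hle) hTM)
    refine Or.inr (cent_of_spread ⟨hS, hF, c'.sys_normal, hD.1.2.2.2.1, fun P f hf => ?_⟩ hD hCN hq.2.1)
    obtain ⟨φ, hφ, he⟩ := hf.of_sub c'.sys_normal₁.1.2.2.1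
    obtain ⟨-, -, g, hg, hgφ, hgT⟩ := mem_centralizerHom.1 (hKc P hφ)
    have hW : (centEOf c.sys F ⊓ M₀) ⊓ R ≤ c.T := fun w hw => ⟨hw.1.2, hw.2⟩
    exact ⟨g, hg.restrict (sup_le_sup_left hW P),
      fun x hx => (hgφ ⟨x, hx⟩).symm.trans (he ⟨x, hx⟩), fun w hw => hgT w (hW hw)⟩

theorem dichotomy {U R : Subgroup Ω} {C : FusionSystem U} {D : FusionSystem R} (hS : IsPGroup p S)
    (hF : F.IsSaturated p) (hC : C.IsComponentIn F p) (hD : D.IsNormalIn F p) :
    U ≤ R ∨ U ≤ centEOf D F :=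
  dichotomy_aux hC.1 hS hF hC.2 hD

end Cfsg.Agent.Local.FS.Commute
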