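import Cfsg.Agent.Lib.Local.FS.Commute.ProductFactor
import Cfsg.Agent.Lib.Local.FS.CoreCentralizer
import Cfsg.Agent.Lib.Local.FS.Meet.Normal

/-!
Two normal subsystems with commuting bases have a normal product.
-/

set_option autoImplicit false

namespace Cfsg.Agent.Local.FS.Commute

open Cfsg Cfsg.FusionSystem Cfsg.Agent.Fusion Cfsg.Agent.Local.FS

universe u

variable {Ω : Type u} [Group Ω] {S T T₁ T₂ Q : Subgroup Ω} {F : FusionSystem S} {E : FusionSystem T}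
  {E₁ : FusionSystem T₁} {E₂ : FusionSystem T₂} {p : ℕ} [Finite S] [Fact p.Prime]

/-- A normal subsystem over `T` fixing a normal subgroup centralized by `T`. -/
theorem exists_fix (hS : IsPGroup p S) (hF : F.IsSaturated p) (hE : E.IsNormalIn F p) (hQ : F.IsNormal Q)
    (hT : T ≤ centralizerIn S Q) :
    ∃ E' : FusionSystem T, E'.IsNormalIn F p ∧ E'.IsSubsystemOf E ∧ CentExt E' F Q := by
  obtain ⟨K, hK, hKc⟩ := exists_centralizer_system hS (inner_normal_of_normal hS hF hQ)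
  have c : Meet.Ctx F E K p := ⟨hS, hF, hE, hK⟩
  have hsys : CentExt c.sys F Q := fun P f hf => by
    obtain ⟨φ, hφ, he⟩ := hf.of_sub c.sys_normal₂.1.2.2.1
    obtain ⟨-, -, g, hg, hgφ, hgQ⟩ := mem_centralizerHom.1 (hKc P hφ)
    exact ⟨g, hg, fun x hx => (hgφ ⟨x, hx⟩).symm.trans (he ⟨x, hx⟩), hgQ⟩
  exact Eq.rec (motive := fun V _ => ∃ E' : FusionSystem V, E'.IsNormalIn F p ∧ E'.IsSubsystemOf E ∧ CentExt E' F Q)
    ⟨c.sys, c.sys_normal, c.sys_normal₁.1.2.2.1, hsys⟩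
    (inf_eq_left.2 ((centEOf_inner hS hF hQ).symm ▸ hT) : T ⊓ centEOf (innerFusionSystem Q) F = T)

/-- The product of two commuting normal subsystems. -/
theorem exists_product (hS : IsPGroup p S) (hF : F.IsSaturated p) (h₁ : E₁.IsNormalIn F p)
    (h₂ : E₂.IsNormalIn F p) (hc : ∀ a ∈ T₁, ∀ b ∈ T₂, a * b = b * a) :
    ∃ D : FusionSystem (T₁ ⊔ T₂), D.IsNormalIn F p ∧
      (T₁ ⊓ T₂ ≤ E₁.center → T₁ ⊓ T₂ ≤ E₂.center → IsCentralProductOf E₁ E₂ D) := by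
  by_cases hW : T₁ ⊓ T₂ ≤ E₁.center ∧ T₁ ⊓ T₂ ≤ E₂.center
  · haveI := finite_of_le h₁.1.2.2.2.1.1
    haveI := finite_of_le h₂.1.2.2.2.1.1
    have hfix : ∀ {T : Subgroup Ω} {E : FusionSystem T} [Finite T], E.IsNormalIn F p → T₁ ⊓ T₂ ≤ E.center →
        CentExt E F (T₁ ⊓ T₂) := fun {T E _} hE hW P f hf => by
      obtain ⟨g, hg, hgf, hgW⟩ := centExt_center (F := E) hW P f hf
      exact ⟨g, hg.of_sub hE.1.2.2.1, hgf, hgW⟩
    have c : PCtx F E₁ E₂ p := ⟨hS, hF, h₁, h₂, hc, hfix h₁ hW.1, hfix h₂ hW.2⟩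
    exact ⟨c.sys, c.sys_normal, fun _ _ => c.isCentralProduct⟩
  · have ht₁ := h₁.1.2.2.2.1
    have ht₂ := h₂.1.2.2.2.1
    have hQ : F.IsNormal (T₁ ⊓ T₂) := normal_of_abelian_stronglyClosed hS hF
      (stronglyClosed_iff.2 ⟨inf_le_left.trans ht₁.1, fun P f hP hf x hx =>
        ⟨(stronglyClosed_iff.1 ht₁).2 P f (hP.trans inf_le_left) hf x hx,
          (stronglyClosed_iff.1 ht₂).2 P f (hP.trans inf_le_right) hf x hx⟩⟩)
      fun a ha b hb => hc a ha.1 b hb.2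
    obtain ⟨E₁', h₁', -, hf₁⟩ := exists_fix hS hF h₁ hQ fun a ha => mem_centralizerIn.2
      ⟨ht₁.1 ha, fun w hw => (hc a ha w hw.2).symm⟩
    obtain ⟨E₂', h₂', -, hf₂⟩ := exists_fix hS hF h₂ hQ fun b hb => mem_centralizerIn.2
      ⟨ht₂.1 hb, fun w hw => hc w hw.1 b hb⟩
    have c : PCtx F E₁' E₂' p := ⟨hS, hF, h₁', h₂', hc, hf₁, hf₂⟩
    exact ⟨c.sys, c.sys_normal, fun h h' => absurd ⟨h, h'⟩ hW⟩

end Cfsg.Agent.Local.FS.Commute
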