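import Cfsg.Agent.Lib.Local.FS.Commute.LayerNormal
import Cfsg.Agent.Lib.Local.FS.Fitting.Exists

/-!
Every component is a normal subsystem of the generalized Fitting subsystem.
-/

set_option autoImplicit false

namespace Cfsg.Agent.Local.FS.Commute

open Cfsg Cfsg.FusionSystem Cfsg.Agent.Fusion Cfsg.Agent.Local.FS

universe u

variable {Ω : Type u} [Group Ω] {S U W : Subgroup Ω} [Finite S] {F : FusionSystem S} {C : FusionSystem U}
  {D : FusionSystem W} {p : ℕ} [Fact p.Prime]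

theorem component_normal_fitting (hS : IsPGroup p S) (hF : F.IsSaturated p) (hC : C.IsComponentIn F p)
    (hD : D.IsGeneralizedFittingOf F p) : C.IsNormalIn D p := by
  obtain ⟨T, E, hE, D₀, hD₀, Z, θ, hZc, -, -, h₁, h₂, hfac⟩ := hD
  have c := Fitting.ctx_of_layer hS hF hE
  have hθ := Fitting.theta_eq (F := F) h₁ h₂
  obtain rfl : W = c.U := hfac.2.2.1.symm.trans (c.range_eq hθ)
  have hfac' := c.isFactor hD₀ hθ hfac.1 hfac.2.1
  have heq : D = c.sys := eq_of_map_iff fun P f =>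
    ⟨fun ⟨φ, hφ, he⟩ => ⟨φ, (hfac'.2.2.2 P φ).2 ((hfac.2.2.2 P φ).1 hφ), he⟩,
      fun ⟨φ, hφ, he⟩ => ⟨φ, (hfac.2.2.2 P φ).2 ((hfac'.2.2.2 P φ).1 hφ), he⟩⟩
  rw [heq]
  have hDs := c.sys_saturated hD₀ hθ hZc hfac'
  obtain ⟨hCs, -, hCi⟩ := (component_normal hS hF hC hE).1
  have hTS := hE.1.1.2.2.2.1.1
  haveI := finite_of_le hTS
  have hUT := hCi.2.1.1
  have hWS : c.U ≤ S := c.uS
  haveI := finite_of_le hWS
  have hsubE : E.IsSubsystemOf c.sys := fun P φ hφ => by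
    have hm := map_of_mem hφ
    obtain ⟨g, hg, hgf, hgQ⟩ := c.ext P _ hm
    obtain ⟨k, hk, hkf, hkW⟩ := c.exists_ext_sub hm
    refine (c.map_sys.2 ⟨hm.le.trans le_sup_right, 1, F.core.one_mem, g, hg, hgQ, ?_, fun x hx => by
      rw [hgf x hx]; group⟩).mem_hom fun x => (fn_coe φ x).symm
    have hle : (P ⊔ F.core) ⊓ T ≤ P ⊔ F.core ⊓ T := fun x hx => by
      obtain ⟨a, ha, q, hq, rfl⟩ := mem_sup_of_normalized (stronglyClosed_le_normalizer c.tQ)
        (hm.le.trans hTS) hx.1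
      exact Subgroup.mul_mem_sup ha ⟨hq, by simpa using T.mul_mem (T.inv_mem (hm.le ha)) hx.2⟩
    refine (hk.restrict hle).congr fun x hx => ?_
    obtain ⟨a, ha, q, hq, rfl⟩ := mem_sup_of_normalized (stronglyClosed_le_normalizer c.tQ)
      (hm.le.trans hTS) hx.1
    have hqW : q ∈ F.core ⊓ T := ⟨hq, by simpa using T.mul_mem (T.inv_mem (hm.le ha)) hx.2⟩
    rw [hk.map_mul (Subgroup.mem_sup_left ha) (Subgroup.mem_sup_right hqW), hkf a ha, hkW q hqW,
      hg.map_mul (Subgroup.mem_sup_left ha) (Subgroup.mem_sup_right hq), hgf a ha, hgQ q hq]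
  have hmap : ∀ (A : Subgroup Ω) (g : Ω → Ω), A ≤ T → Map c.sys A g → Map E A g := fun A g hA hg => by
    obtain ⟨-, u, hu, k, -, -, hk, hkg⟩ := c.map_sys.1 hg
    refine (hk.restrict fun a ha => ⟨Subgroup.mem_sup_left ha, hA ha⟩).congr fun a ha => ?_
    rw [hkg a ha, c.conj_fix hu (hk.mem ⟨Subgroup.mem_sup_left ha, hA ha⟩)]
  have hsub : C.IsSubsystemOf c.sys := fun P φ hφ => hsubE P (hE.2.1 _ _ hC P hφ)
  have hcl : c.sys.StronglyClosed U := stronglyClosed_iff.2 ⟨le_of_sub hsub, fun A g hA hg x hx =>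
    (stronglyClosed_iff.1 hCi.2.1).2 A g hA (hmap A g (hA.trans hUT) hg) x hx⟩
  have hinvE := (isInvariantIn_iff (hS.to_le hTS) hE.1.1.1 hCi.1 hCi.2.1).1 hCi
  have hweak : C.IsWeaklyNormalIn c.sys p := ⟨hCs, hDs, (isInvariantIn_iff (hS.to_le hWS) hDs hsub hcl).2
    fun A B f g hAB hB hf hfB hg => hinvE A B f g hAB hB hf hfB (hmap B g (hB.trans hUT) hg)⟩
  haveI := finite_of_le (le_of_sub hsub)
  exact primeResidual_isNormalIn (hS.to_le hWS) hweak
    (Layer.quasisimple_isPPrimeResidual ((hS.to_le hWS).to_le (le_of_sub hsub)) hC.2)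

end Cfsg.Agent.Local.FS.Commute
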