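import Cfsg.Agent.Lib.Local.FS.Commute.Dichotomy
import Cfsg.Agent.Lib.Local.FS.PerfectCentralizesCore

/-!
Two commuting normal subsystems: the maps of their product.
-/

set_option autoImplicit false

namespace Cfsg.Agent.Local.FS.Commute

open Cfsg Cfsg.FusionSystem Cfsg.Agent.Fusion Cfsg.Agent.Local.FS

universe u

variable {Ω : Type u} [Group Ω] {S T₁ T₂ : Subgroup Ω} {F : FusionSystem S} {E₁ : FusionSystem T₁}
  {E₂ : FusionSystem T₂} {P R : Subgroup Ω} {f g : Ω → Ω} {p : ℕ}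

/-- A subgroup containing a Sylow subgroup and all elements of order prime to `p` is everything. -/
theorem le_of_sylIn {G : Type*} [Group G] [Finite G] [Fact p.Prime] {A H P₀ : Subgroup G}
    (hs : SylIn p P₀ A) (h : P₀ ≤ H) (h' : ∀ a ∈ A, (orderOf a).Coprime p → a ∈ H) : A ≤ H := by
  have hdvd : Nat.card A ∣ Nat.card ↥(A ⊓ H) := by
    refine Nat.dvd_iff_prime_pow_dvd_dvd _ _ |>.2 fun q k hq hk => ?_
    rcases eq_or_ne q p with rfl | hne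
    · rw [← Subgroup.relIndex_bot_left (H := A), ← Subgroup.relIndex_mul_relIndex ⊥ P₀ A bot_le hs.le,
        Subgroup.relIndex_bot_left] at hk
      exact (((hq.coprime_iff_not_dvd.2 hs.not_dvd).pow_left k).dvd_of_dvd_mul_right hk).trans
        (Subgroup.card_dvd_of_le (le_inf hs.le h))
    · haveI := Fact.mk hq
      obtain ⟨K, hK⟩ := Sylow.exists_subgroup_card_pow_prime q hk
      rw [← hK, Nat.card_congr (K.equivMapOfInjective A.subtype A.subtype_injective).toEquiv]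
      refine Subgroup.card_dvd_of_le ?_
      rintro _ ⟨a, ha, rfl⟩
      refine ⟨a.2, h' _ a.2 ?_⟩
      rw [Subgroup.coe_subtype, Subgroup.orderOf_coe]
      refine Nat.Coprime.coprime_dvd_left ?_
        ((Nat.coprime_primes hq (Fact.out : p.Prime)).2 hne |>.pow_left k)
      rw [← hK]
      exact Subgroup.orderOf_coe (⟨a, ha⟩ : K) ▸ orderOf_dvd_natCard (⟨a, ha⟩ : K)
  have := Subgroup.eq_of_le_of_card_ge (inf_le_left : A ⊓ H ≤ A) (Nat.le_of_dvd Nat.card_pos hdvd)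
  exact this ▸ inf_le_right

/-- Two normal subsystems with commuting bases whose maps fix the intersection of the bases. -/
structure PCtx (F : FusionSystem S) (E₁ : FusionSystem T₁) (E₂ : FusionSystem T₂) (p : ℕ) : Prop where
  pS : IsPGroup p S
  sat : F.IsSaturated p
  n₁ : E₁.IsNormalIn F p
  n₂ : E₂.IsNormalIn F p
  comm : ∀ a ∈ T₁, ∀ b ∈ T₂, a * b = b * a
  fix₁ : CentExt E₁ F (T₁ ⊓ T₂)
  fix₂ : CentExt E₂ F (T₁ ⊓ T₂)

variable (c : PCtx F E₁ E₂ p)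
include c

theorem PCtx.symm : PCtx F E₂ E₁ p :=
  ⟨c.pS, c.sat, c.n₂, c.n₁, fun a ha b hb => (c.comm b hb a ha).symm, inf_comm T₁ T₂ ▸ c.fix₂,
    inf_comm T₁ T₂ ▸ c.fix₁⟩

theorem PCtx.t₁ : F.StronglyClosed T₁ := c.n₁.1.2.2.2.1

theorem PCtx.t₂ : F.StronglyClosed T₂ := c.n₂.1.2.2.2.1

theorem PCtx.cctx : Ctx F E₁ T₂ p := ⟨c.pS, c.sat, c.n₁, c.t₂, c.fix₁⟩

/-- The base of the product. -/
abbrev PCtx.U (_c : PCtx F E₁ E₂ p) : Subgroup Ω := T₁ ⊔ T₂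

/-- The projections of a subgroup of the base. -/
def pj (T₁ T₂ P : Subgroup Ω) : Subgroup Ω := (P ⊔ T₂) ⊓ T₁

/-- The maps of the product. -/
def PCtx.DMap (_c : PCtx F E₁ E₂ p) (P : Subgroup Ω) (f : Ω → Ω) : Prop :=
  P ≤ T₁ ⊔ T₂ ∧ ∃ g₁ g₂, Map E₁ (pj T₁ T₂ P) g₁ ∧ Map E₂ (pj T₂ T₁ P) g₂ ∧
    ∀ a ∈ T₁, ∀ b ∈ T₂, a * b ∈ P → f (a * b) = g₁ a * g₂ b

theorem PCtx.uS : c.U ≤ S := sup_le c.t₁.1 c.t₂.1

theorem PCtx.exists_split {x : Ω} (hx : x ∈ T₁ ⊔ T₂) : ∃ a ∈ T₁, ∃ b ∈ T₂, a * b = x := by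
  obtain ⟨a, ha, b, hb, rfl⟩ := mem_sup_of_normalized (stronglyClosed_le_normalizer c.t₂) c.t₁.1 hx
  exact ⟨a, ha, b, hb, rfl⟩

omit c in
theorem mem_pj {a b : Ω} (ha : a ∈ T₁) (hb : b ∈ T₂) (h : a * b ∈ P) : a ∈ pj T₁ T₂ P :=
  ⟨by simpa using (Subgroup.mul_mem _ (Subgroup.mem_sup_left (T := T₂) h)
      (Subgroup.inv_mem _ (Subgroup.mem_sup_right (S := P) hb)) : a * b * b⁻¹ ∈ P ⊔ T₂), ha⟩

theorem PCtx.mem_pj' {a b : Ω} (ha : a ∈ T₁) (hb : b ∈ T₂) (h : a * b ∈ P) : b ∈ pj T₂ T₁ P :=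
  mem_pj hb ha (c.comm a ha b hb ▸ h)

omit c in
theorem pj_mono (h : R ≤ P) : pj T₁ T₂ R ≤ pj T₁ T₂ P := inf_le_inf_right _ (sup_le_sup_right h _)

omit c in
theorem le_pj : T₁ ⊓ T₂ ≤ pj T₁ T₂ P := fun _ hw => ⟨Subgroup.mem_sup_right hw.2, hw.1⟩

theorem PCtx.exists_pj {a : Ω} (hP : P ≤ c.U) (ha : a ∈ pj T₁ T₂ P) : ∃ b ∈ T₂, a * b ∈ P := by
  obtain ⟨x, hx, b, hb, he⟩ := mem_sup_of_normalized (stronglyClosed_le_normalizer c.t₂) (hP.trans c.uS) ha.1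
  refine ⟨b⁻¹, T₂.inv_mem hb, ?_⟩
  rw [← he, mul_inv_cancel_right]
  exact hx

theorem PCtx.conj_fix {a b : Ω} (ha : a ∈ T₁) (hb : b ∈ T₂) : a * b * a⁻¹ = b := by
  rw [c.comm a ha b hb, mul_inv_cancel_right]

theorem PCtx.fixed (hf : Map E₁ P f) {w : Ω} (hwP : w ∈ P) (hw : w ∈ T₁ ⊓ T₂) : f w = w :=
  c.cctx.fixed hf hwP hw

variable [Finite S] [Fact p.Prime]

/-- The maps of a factor extend by the identity on the other base. -/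
theorem PCtx.cent : CentExt E₁ F T₂ := by
  haveI := finite_of_le c.t₁.1
  let K : Subgroup Ω → (Ω → Ω) → Prop := fun P f =>
    ∃ g, Map F (P ⊔ T₂) g ∧ (∀ x ∈ P, g x = f x) ∧ ∀ q ∈ T₂, g q = q
  have hK : IsClosedClass E₁ K := by
    refine ⟨?_, ?_, ?_, ?_⟩
    · rintro P f g ⟨k, hk, hkf, hkW⟩ he
      exact ⟨k, hk, fun x hx => (hkf x hx).trans (he x hx), hkW⟩
    · rintro P R f - ⟨k, hk, hkf, hkW⟩ hR
      exact ⟨k, hk.restrict (sup_le_sup_right hR _), fun x hx => hkf x (hR hx), hkW⟩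
    · rintro P R f g - - ⟨k, hk, hkf, hkW⟩ ⟨l, hl, hlg, hlW⟩ hm
      refine ⟨l ∘ k, hk.comp hl fun x hx => ?_, fun x hx => ?_, fun w hw => ?_⟩
      · exact (show im P k ⊔ im T₂ k ≤ R ⊔ T₂ from
          sup_le_sup (im_le_iff.2 fun y hy => by rw [hkf y hy]; exact hm y hy)
            (im_le_iff.2 fun y hy => by rw [hkW y hy]; exact hy)) (hk.im_sup_le (mem_im_of_mem hx))
      · show l (k x) = g (f x)
        rw [hkf x hx, hlg _ (hm x hx)]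
      · show l (k w) = w
        rw [hkW w hw, hlW w hw]
    · rintro P f g hf ⟨k, hk, hkf, hkW⟩ hg
      obtain ⟨l, hl, hlk, -, -⟩ := hk.exists_inv
      refine ⟨l, hl.restrict (sup_le ((im_congr hkf).symm.le.trans (im_mono le_sup_left)) fun w hw =>
        hkW w hw ▸ mem_im_of_mem (Subgroup.mem_sup_right hw)), fun y hy => ?_, fun w hw => ?_⟩
      · obtain ⟨x, hx, rfl⟩ := hf.mem_im.1 hy
        rw [hg x hx, ← hkf x hx, hlk x (Subgroup.mem_sup_left hx)]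
      · conv_lhs => rw [← hkW w hw]
        exact hlk w (Subgroup.mem_sup_right hw)
  refine alperin (c.pS.to_le c.t₁.1) c.n₁.1.1 hK fun Q hQ => ?_
  obtain ⟨hQT, hQn⟩ : Q ≤ T₁ ∧ E₁.IsFullyNormalized Q := by
    rcases hQ with rfl | hQ
    · exact ⟨le_rfl, fn_self⟩
    · exact ⟨hQ.1.1, hQ.2.1⟩
  haveI := mulAut_finite_of_le hQT
  let H : Subgroup (MulAut Q) :=
    { carrier := {a | a ∈ E₁.autGroup Q ∧ K Q (av a)}
      one_mem' := ⟨Subgroup.one_mem _, fun x => x,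
        (map_conjBy (sup_le (hQT.trans c.t₁.1) c.t₂.1) S.one_mem).congr fun x _ => by group,
        fun x hx => (av_one hx).symm, fun _ _ => rfl⟩
      mul_mem' := fun {a b} ha hb => ⟨Subgroup.mul_mem _ ha.1 hb.1, hK.congr (hK.comp
        (map_of_mem_autGroup hQT hb.1) (map_of_mem_autGroup hQT ha.1) hb.2 ha.2 fun x hx => av_mem b hx)
        fun x hx => (av_mul a b hx).symm⟩
      inv_mem' := fun {a} ha => ⟨Subgroup.inv_mem _ ha.1, by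
        have h1 := hK.inv (g := av a⁻¹) (map_of_mem_autGroup hQT ha.1) ha.2 fun x hx => av_inv_av a hx
        rwa [im_av a] at h1⟩ }
  suffices E₁.autGroup Q ≤ H from fun a ha => (this ha).2
  refine le_of_sylIn (fa_iff.1 (fc_fa_of_fn (c.pS.to_le c.t₁.1) c.n₁.1.1 hQn).2).2 ?_ ?_
  · intro a ha
    refine ⟨autInducedBy_le_autGroup hQT ha, ?_⟩
    obtain ⟨t, ht, he⟩ := mem_autInducedBy.1 ha
    exact ⟨fun x => t * x * t⁻¹, map_conjBy (sup_le (hQT.trans c.t₁.1) c.t₂.1) (c.t₁.1 ht),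
      fun x hx => (he x hx).symm, fun q hq => c.conj_fix ht hq⟩
  · exact fun a ha hao => ⟨ha, c.cctx.ext_fix (map_of_mem_autGroup hQT ha) hao⟩

/-- The maps of a factor extend inside it by the identity on the intersection. -/
theorem PCtx.ext_sub (hf : Map E₁ P f) :
    ∃ g, Map E₁ (P ⊔ T₁ ⊓ T₂) g ∧ (∀ x ∈ P, g x = f x) ∧ ∀ w ∈ T₁ ⊓ T₂, g w = w := by
  haveI := finite_of_le c.t₁.1
  let K : Subgroup Ω → (Ω → Ω) → Prop := fun P f =>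
    ∃ g, Map E₁ (P ⊔ T₁ ⊓ T₂) g ∧ (∀ x ∈ P, g x = f x) ∧ ∀ w ∈ T₁ ⊓ T₂, g w = w
  have hK : IsClosedClass E₁ K := by
    refine ⟨?_, ?_, ?_, ?_⟩
    · rintro P f g ⟨k, hk, hkf, hkW⟩ he
      exact ⟨k, hk, fun x hx => (hkf x hx).trans (he x hx), hkW⟩
    · rintro P R f - ⟨k, hk, hkf, hkW⟩ hR
      exact ⟨k, hk.restrict (sup_le_sup_right hR _), fun x hx => hkf x (hR hx), hkW⟩
    · rintro P R f g - - ⟨k, hk, hkf, hkW⟩ ⟨l, hl, hlg, hlW⟩ hm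
      refine ⟨l ∘ k, hk.comp hl fun x hx => ?_, fun x hx => ?_, fun w hw => ?_⟩
      · exact (show im P k ⊔ im (T₁ ⊓ T₂) k ≤ R ⊔ T₁ ⊓ T₂ from
          sup_le_sup (im_le_iff.2 fun y hy => by rw [hkf y hy]; exact hm y hy)
            (im_le_iff.2 fun y hy => by rw [hkW y hy]; exact hy)) (hk.im_sup_le (mem_im_of_mem hx))
      · show l (k x) = g (f x)
        rw [hkf x hx, hlg _ (hm x hx)]
      · show l (k w) = w
        rw [hkW w hw, hlW w hw]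
    · rintro P f g hf ⟨k, hk, hkf, hkW⟩ hg
      obtain ⟨l, hl, hlk, -, -⟩ := hk.exists_inv
      refine ⟨l, hl.restrict (sup_le ((im_congr hkf).symm.le.trans (im_mono le_sup_left)) fun w hw =>
        hkW w hw ▸ mem_im_of_mem (Subgroup.mem_sup_right hw)), fun y hy => ?_, fun w hw => ?_⟩
      · obtain ⟨x, hx, rfl⟩ := hf.mem_im.1 hy
        rw [hg x hx, ← hkf x hx, hlk x (Subgroup.mem_sup_left hx)]
      · conv_lhs => rw [← hkW w hw]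
        exact hlk w (Subgroup.mem_sup_right hw)
  refine alperin (c.pS.to_le c.t₁.1) c.n₁.1.1 hK (fun Q hQ a ha => ?_) P f hf
  obtain ⟨hQT, hW⟩ : Q ≤ T₁ ∧ T₁ ⊓ T₂ ≤ Q := by
    rcases hQ with rfl | hQ
    · exact ⟨le_rfl, inf_le_left⟩
    · exact ⟨hQ.1.1, fun w hw => centric_inv_mem hQ.1 hw.1 fun y hy => c.comm y (hQ.1.1 hy) w hw.2⟩
  have hm := map_of_mem_autGroup hQT ha
  exact ⟨av a, by rwa [sup_eq_left.2 hW], fun _ _ => rfl, fun w hw => c.fixed hm (hW hw) hw⟩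

variable {c}

omit [Finite S] [Fact p.Prime] in
theorem PCtx.DMap.congr (h : c.DMap P f) (he : ∀ x ∈ P, f x = g x) : c.DMap P g :=
  let ⟨hP, g₁, g₂, h₁, h₂, hf⟩ := h
  ⟨hP, g₁, g₂, h₁, h₂, fun a ha b hb hab => (he _ hab).symm.trans (hf a ha b hb hab)⟩

omit [Finite S] [Fact p.Prime] in
theorem PCtx.DMap.restrict (h : c.DMap P f) (hR : R ≤ P) : c.DMap R f :=
  let ⟨hP, g₁, g₂, h₁, h₂, hf⟩ := h
  ⟨hR.trans hP, g₁, g₂, h₁.restrict (pj_mono hR), h₂.restrict (pj_mono hR),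
    fun a ha b hb hab => hf a ha b hb (hR hab)⟩

theorem PCtx.DMap.toMap (h : c.DMap P f) : Map F P f := by
  obtain ⟨hP, g₁, g₂, h₁, h₂, hf⟩ := h
  obtain ⟨G₁, hG₁, hG₁f, hG₁W⟩ := c.cent _ _ h₁
  obtain ⟨G₂, hG₂, hG₂f, hG₂W⟩ := c.symm.cent _ _ h₂
  have hle : P ≤ pj T₂ T₁ P ⊔ T₁ := fun x hx => by
    obtain ⟨a, ha, b, hb, rfl⟩ := c.exists_split (hP hx)
    exact Subgroup.mul_mem _ (Subgroup.mem_sup_right ha) (Subgroup.mem_sup_left (c.mem_pj' ha hb hx))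
  have hval : ∀ a ∈ T₁, ∀ b ∈ T₂, a * b ∈ P → G₂ (a * b) = a * g₂ b ∧
      G₁ (a * g₂ b) = g₁ a * g₂ b := fun a ha b hb hab => by
    have hb' := c.mem_pj' ha hb hab
    refine ⟨by rw [hG₂.map_mul (Subgroup.mem_sup_right ha) (Subgroup.mem_sup_left hb'), hG₂W a ha, hG₂f b hb'], ?_⟩
    have ha' := mem_pj ha hb hab
    rw [hG₁.map_mul (Subgroup.mem_sup_left ha') (Subgroup.mem_sup_right (h₂.mem hb')), hG₁f a ha',
      hG₁W _ (h₂.mem hb')]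
  refine ((hG₂.restrict hle).comp hG₁ fun x hx => ?_).congr fun x hx => ?_
  · obtain ⟨a, ha, b, hb, rfl⟩ := c.exists_split (hP hx)
    rw [(hval a ha b hb hx).1]
    exact Subgroup.mul_mem_sup (mem_pj ha hb hx) (h₂.mem (c.mem_pj' ha hb hx))
  · obtain ⟨a, ha, b, hb, rfl⟩ := c.exists_split (hP hx)
    show G₁ (G₂ (a * b)) = _
    rw [(hval a ha b hb hx).1, (hval a ha b hb hx).2, hf a ha b hb hx]

omit [Finite S] [Fact p.Prime] in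
theorem PCtx.DMap.mem (h : c.DMap P f) {x : Ω} (hx : x ∈ P) : f x ∈ c.U := by
  obtain ⟨hP, g₁, g₂, h₁, h₂, hf⟩ := h
  obtain ⟨a, ha, b, hb, rfl⟩ := c.exists_split (hP hx)
  rw [hf a ha b hb hx]
  exact Subgroup.mul_mem_sup (h₁.mem (mem_pj ha hb hx)) (h₂.mem (c.mem_pj' ha hb hx))

omit [Finite S] [Fact p.Prime] in
theorem PCtx.DMap.comp {f' : Ω → Ω} (h : c.DMap P f) (h' : c.DMap R f') (hm : ∀ x ∈ P, f x ∈ R) :
    c.DMap P (f' ∘ f) := by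
  obtain ⟨hP, g₁, g₂, h₁, h₂, hf⟩ := h
  obtain ⟨hR, k₁, k₂, hk₁, hk₂, hf'⟩ := h'
  have hR' : ∀ a ∈ T₁, ∀ b ∈ T₂, a * b ∈ P → g₁ a * g₂ b ∈ R := fun a ha b hb hab =>
    hf a ha b hb hab ▸ hm _ hab
  refine ⟨hP, k₁ ∘ g₁, k₂ ∘ g₂, h₁.comp hk₁ fun a ha => ?_, h₂.comp hk₂ fun b hb => ?_,
    fun a ha b hb hab => ?_⟩
  · obtain ⟨b, hb, hab⟩ := c.exists_pj hP ha
    exact mem_pj (h₁.mem ha) (h₂.mem (c.mem_pj' ha.2 hb hab)) (hR' a ha.2 b hb hab)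
  · obtain ⟨a, ha, hba⟩ := c.symm.exists_pj (hP.trans (sup_comm T₁ T₂).le) hb
    rw [c.symm.comm b hb.2 a ha] at hba
    exact c.mem_pj' (h₁.mem (mem_pj ha hb.2 hba)) (h₂.mem hb) (hR' a ha b hb.2 hba)
  · show f' (f (a * b)) = _
    rw [hf a ha b hb hab]
    exact hf' _ (h₁.mem (mem_pj ha hb hab)) _ (h₂.mem (c.mem_pj' ha hb hab)) (hR' a ha b hb hab)

omit [Finite S] [Fact p.Prime] in
theorem PCtx.DMap.inv (hfm : Map F P f) (h : c.DMap P f) (hg : ∀ x ∈ P, g (f x) = x) :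
    c.DMap (im P f) g := by
  obtain ⟨hP, g₁, g₂, h₁, h₂, hf⟩ := h
  obtain ⟨l₁, hl₁, hlg₁, -, -⟩ := h₁.exists_inv
  obtain ⟨l₂, hl₂, hlg₂, -, -⟩ := h₂.exists_inv
  have key : ∀ a' ∈ T₁, ∀ b' ∈ T₂, a' * b' ∈ im P f → ∃ a ∈ pj T₁ T₂ P, ∃ b ∈ pj T₂ T₁ P,
      g₁ a = a' ∧ g₂ b = b' ∧ g (a' * b') = a * b := by
    intro a' ha' b' hb' hab'
    obtain ⟨x, hx, hxe⟩ := hfm.mem_im.1 hab'
    obtain ⟨a, ha, b, hb, rfl⟩ := c.exists_split (hP hx)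
    rw [hf a ha b hb hx] at hxe
    have hga := h₁.mem (mem_pj ha hb hx)
    have hgb := h₂.mem (c.mem_pj' ha hb hx)
    obtain ⟨w, hwd⟩ : ∃ w, w = (g₁ a)⁻¹ * a' := ⟨_, rfl⟩
    have hwe : w = g₂ b * b'⁻¹ := by
      rw [hwd, inv_mul_eq_iff_eq_mul, ← mul_assoc, hxe, mul_inv_cancel_right]
    have hw : w ∈ T₁ ⊓ T₂ :=
      ⟨hwd ▸ T₁.mul_mem (T₁.inv_mem hga) ha', hwe ▸ T₂.mul_mem hgb (T₂.inv_mem hb')⟩
    have hw1 : w ∈ pj T₁ T₂ P := le_pj hw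
    have hw2 : w⁻¹ ∈ pj T₂ T₁ P := le_pj (Subgroup.inv_mem _ ⟨hw.2, hw.1⟩)
    refine ⟨a * w, Subgroup.mul_mem _ (mem_pj ha hb hx) hw1, w⁻¹ * b,
      Subgroup.mul_mem _ hw2 (c.mem_pj' ha hb hx), ?_, ?_, ?_⟩
    · rw [h₁.map_mul (mem_pj ha hb hx) hw1, c.fixed h₁ hw1 hw, hwd, mul_inv_cancel_left]
    · rw [h₂.map_mul hw2 (c.mem_pj' ha hb hx),
        c.symm.fixed h₂ hw2 (Subgroup.inv_mem _ ⟨hw.2, hw.1⟩), hwe]
      group
    · rw [← hxe, ← hf a ha b hb hx, hg _ hx, mul_assoc, mul_inv_cancel_left]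
  refine ⟨im_le_iff.2 fun x hx => (show c.DMap P f from ⟨hP, g₁, g₂, h₁, h₂, hf⟩).mem hx, l₁, l₂,
    hl₁.restrict fun a' ha' => ?_, hl₂.restrict fun b' hb' => ?_, fun a' ha' b' hb' hab' => ?_⟩
  · obtain ⟨b', hb', hab'⟩ := c.exists_pj
      (im_le_iff.2 fun x hx => (show c.DMap P f from ⟨hP, g₁, g₂, h₁, h₂, hf⟩).mem hx) ha'
    obtain ⟨a, ha, -, -, he, -, -⟩ := key a' ha'.2 b' hb' hab'
    exact he ▸ mem_im_of_mem ha
  · obtain ⟨a', ha', hba'⟩ := c.symm.exists_pj ((im_le_iff.2 fun x hx =>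
      (show c.DMap P f from ⟨hP, g₁, g₂, h₁, h₂, hf⟩).mem hx).trans (sup_comm T₁ T₂).le) hb'
    rw [c.symm.comm b' hb'.2 a' ha'] at hba'
    obtain ⟨-, -, b, hb, -, he, -⟩ := key a' ha' b' hb'.2 hba'
    exact he ▸ mem_im_of_mem hb
  · obtain ⟨a, ha, b, hb, rfl, rfl, he⟩ := key a' ha' b' hb' hab'
    rw [he, hlg₁ a ha, hlg₂ b hb]

variable (c)

omit [Finite S] [Fact p.Prime] in
theorem PCtx.dmap_conjBy (hP : P ≤ c.U) {w : Ω} (hw : w ∈ c.U) : c.DMap P (fun x => w * x * w⁻¹) := by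
  obtain ⟨a₀, ha₀, b₀, hb₀, rfl⟩ := c.exists_split hw
  refine ⟨hP, fun x => a₀ * x * a₀⁻¹, fun x => b₀ * x * b₀⁻¹, map_conjBy inf_le_right ha₀,
    map_conjBy inf_le_right hb₀, fun a ha b hb _ => ?_⟩
  show a₀ * b₀ * (a * b) * (a₀ * b₀)⁻¹ = a₀ * a * a₀⁻¹ * (b₀ * b * b₀⁻¹)
  calc a₀ * b₀ * (a * b) * (a₀ * b₀)⁻¹ = a₀ * (b₀ * a) * (b * b₀⁻¹) * a₀⁻¹ := by group
    _ = a₀ * a * ((b₀ * b * b₀⁻¹) * a₀⁻¹) := by rw [← c.comm a ha b₀ hb₀]; group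
    _ = _ := by
      rw [← c.comm a₀⁻¹ (T₁.inv_mem ha₀) _ (T₂.mul_mem (T₂.mul_mem hb₀ hb) (T₂.inv_mem hb₀))]
      group

/-- The product system. -/
def PCtx.sys : FusionSystem c.U where
  Hom P := {φ | φ ∈ F.Hom P ∧ c.DMap P (fn φ)}
  le_of_mem {P φ} hφ := ⟨hφ.2.1, fun x => by rw [← fn_coe φ x]; exact hφ.2.mem x.2⟩
  injective_of_mem hφ := F.injective_of_mem hφ.1
  conj_mem {P g} hP hg := ⟨F.conj_mem (hP.trans c.uS) (c.uS hg),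
    (c.dmap_conjBy hP hg).congr fun x hx => by rw [fn_apply (conjHom P g) hx]; rfl⟩
  comp_mem {P Q φ ψ} hφ hψ hm := ⟨F.comp_mem hφ.1 hψ.1 hm,
    (hφ.2.comp hψ.2 fun x hx => by rw [fn_apply φ hx]; exact hm _).congr fun x hx => by
      show fn ψ (fn φ x) = _
      rw [fn_apply φ hx, fn_apply ψ (hm _), fn_apply _ hx]; rfl⟩
  inv_mem {P φ} hφ := by
    obtain ⟨ψ, hψ, hψφ⟩ := F.inv_mem hφ.1
    refine ⟨ψ, ⟨hψ, ?_⟩, hψφ⟩
    have key : c.DMap (im P (fn φ)) (fn ψ) := hφ.2.inv (map_of_mem hφ.1) fun x hx => by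
      rw [fn_apply φ hx, fn_apply ψ ⟨⟨x, hx⟩, rfl⟩, hψφ ⟨x, hx⟩]
    rwa [(map_of_mem hφ.1).im_eq_range fun x => (fn_coe φ x).symm] at key

theorem PCtx.map_sys : Map c.sys P f ↔ c.DMap P f := by
  constructor
  · rintro ⟨φ, hφ, he⟩
    exact hφ.2.congr fun x hx => by rw [fn_apply φ hx]; exact he ⟨x, hx⟩
  · intro hf
    obtain ⟨φ, hφ, he⟩ := hf.toMap
    exact ⟨φ, ⟨hφ, hf.congr fun x hx => by rw [fn_apply φ hx]; exact (he ⟨x, hx⟩).symm⟩, he⟩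

theorem PCtx.sys_sub : c.sys.IsSubsystemOf F := fun _ _ hφ => hφ.1

/-- The maps of a factor are maps of the product. -/
theorem PCtx.dmap_of_map (hf : Map E₁ P f) : c.DMap P f := by
  obtain ⟨g, hg, hgf, hgW⟩ := c.ext_sub hf
  have hPT := hf.le
  have hle : pj T₁ T₂ P ≤ P ⊔ T₁ ⊓ T₂ := fun a ha => by
    obtain ⟨b, hb, hab⟩ := c.exists_pj (hPT.trans le_sup_left) ha
    have hbW : b ∈ T₁ ⊓ T₂ := ⟨by simpa using T₁.mul_mem (T₁.inv_mem ha.2) (hPT hab), hb⟩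
    simpa using Subgroup.mul_mem_sup hab (Subgroup.inv_mem _ hbW)
  refine ⟨hPT.trans le_sup_left, g, fun x => x, hg.restrict hle,
    (map_conjBy inf_le_right T₂.one_mem).congr fun x _ => by group, fun a ha b hb hab => ?_⟩
  have hbW : b ∈ T₁ ⊓ T₂ := ⟨by simpa using T₁.mul_mem (T₁.inv_mem ha) (hPT hab), hb⟩
  rw [← hgf _ hab, hg.map_mul (hle (mem_pj ha hb hab)) (Subgroup.mem_sup_right hbW), hgW b hbW]

theorem PCtx.sub₁ : E₁.IsSubsystemOf c.sys := fun _ φ hφ =>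
  (c.map_sys.2 (c.dmap_of_map (map_of_mem hφ))).mem_hom fun x => (fn_coe φ x).symm

end Cfsg.Agent.Local.FS.Commute
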