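import Cfsg.Agent.Lib.Local.FS.Commute.ProductInv
import Cfsg.Agent.Lib.Local.FS.ProdSat
import Cfsg.Agent.Lib.Local.FS.Factor
import Cfsg.Agent.Lib.Local.FS.FactorHyperfocal

/-!
The product of two commuting normal subsystems is normal and is their central product.
-/

set_option autoImplicit false

namespace Cfsg.Agent.Local.FS.Commute

open Cfsg Cfsg.FusionSystem Cfsg.Agent.Fusion Cfsg.Agent.Local.FS

universe u

variable {Ω : Type u} [Group Ω] {S T₁ T₂ : Subgroup Ω} {F : FusionSystem S} {E₁ : FusionSystem T₁}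
  {E₂ : FusionSystem T₂} {P R : Subgroup Ω} {f g : Ω → Ω} {p : ℕ} (c : PCtx F E₁ E₂ p)
include c

section Prod

variable {θ : ↥(T₁.prod T₂) →* Ω} (hθ : ∀ x : ↥(T₁.prod T₂), θ x = (x : Ω × Ω).1 * (x : Ω × Ω).2)
include hθ

theorem PCtx.range_eq : θ.range = c.U := by
  refine le_antisymm ?_ fun x hx => ?_
  · rintro _ ⟨x, rfl⟩
    rw [hθ]
    exact Subgroup.mul_mem_sup x.2.1 x.2.2
  · obtain ⟨a, ha, b, hb, rfl⟩ := c.exists_split hx
    exact ⟨⟨(a, b), ha, hb⟩, hθ _⟩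

omit c in
theorem mem_pre {P' : Subgroup Ω} {x : Ω × Ω} :
    x ∈ preimageAlong θ P' ↔ x ∈ T₁.prod T₂ ∧ x.1 * x.2 ∈ P' := by
  refine ⟨?_, fun ⟨h, h'⟩ => ⟨⟨x, h⟩, show θ ⟨x, h⟩ ∈ P' by rwa [hθ], rfl⟩⟩
  rintro ⟨y, hy, rfl⟩
  have hy' : θ y ∈ P' := hy
  rw [hθ] at hy'
  exact ⟨y.2, hy'⟩

theorem PCtx.pr₁_pre {P' : Subgroup Ω} (hP : P' ≤ c.U) : pr₁ (preimageAlong θ P') = pj T₁ T₂ P' := by
  refine le_antisymm ?_ fun a ha => ?_
  · rintro _ ⟨x, hx, rfl⟩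
    obtain ⟨hxm, hxP⟩ := (mem_pre hθ).1 hx
    exact mem_pj hxm.1 hxm.2 hxP
  · obtain ⟨b, hb, hab⟩ := c.exists_pj hP ha
    exact mem_pr₁ (P := preimageAlong θ P') (x := (a, b)) ((mem_pre hθ).2 ⟨⟨ha.2, hb⟩, hab⟩)

theorem PCtx.pr₂_pre {P' : Subgroup Ω} (hP : P' ≤ c.U) : pr₂ (preimageAlong θ P') = pj T₂ T₁ P' := by
  refine le_antisymm ?_ fun b hb => ?_
  · rintro _ ⟨x, hx, rfl⟩
    obtain ⟨hxm, hxP⟩ := (mem_pre hθ).1 hx
    exact c.mem_pj' hxm.1 hxm.2 hxP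
  · obtain ⟨a, ha, hba⟩ := c.symm.exists_pj (hP.trans (sup_comm T₁ T₂).le) hb
    rw [c.symm.comm b hb.2 a ha] at hba
    exact mem_pr₂ (P := preimageAlong θ P') (x := (a, b)) ((mem_pre hθ).2 ⟨⟨ha, hb.2⟩, hba⟩)

variable [Finite S] [Fact p.Prime]

theorem PCtx.hom_iff {D₀ : FusionSystem (T₁.prod T₂)} (hD₀ : IsProductSystem E₁ E₂ D₀) {P' : Subgroup Ω}
    {φ' : P' →* Ω} :
    φ' ∈ c.sys.Hom P' ↔ P' ≤ c.U ∧ ∃ φ ∈ D₀.Hom (preimageAlong θ P'), InducedAlong θ φ φ' := by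
  constructor
  · rintro ⟨-, hP, g₁, g₂, h₁, h₂, hgφ⟩
    have hpre : preimageAlong θ P' ≤ T₁.prod T₂ := fun x hx => ((mem_pre hθ).1 hx).1
    obtain ⟨φ, hφ, he⟩ := (prod_map_iff hD₀).2 ⟨hpre, g₁, g₂, (c.pr₁_pre hθ hP).symm ▸ h₁,
      (c.pr₂_pre hθ hP).symm ▸ h₂, fun x _ => rfl⟩
    refine ⟨hP, φ, hφ, hpre, fun x => (D₀.le_of_mem hφ).2 x,
      fun x => ?_, fun x => ?_⟩
    · obtain ⟨hxm, hxP⟩ := (mem_pre hθ).1 x.2
      rwa [hθ]
    obtain ⟨hxm, hxP⟩ := (mem_pre hθ).1 x.2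
    refine Eq.trans ?_ (hθ _).symm
    rw [← fn_coe φ' _]
    show fn φ' (θ ⟨x, _⟩) = _
    rw [hθ]
    show fn φ' ((x : Ω × Ω).1 * (x : Ω × Ω).2) = (φ x).1 * (φ x).2
    rw [hgφ _ hxm.1 _ hxm.2 hxP, he x]
  · rintro ⟨hP, φ, hφ, hpre, hm, hm', hind⟩
    obtain ⟨-, f₁, f₂, h₁, h₂, he⟩ := (prod_map_iff hD₀).1 (map_of_mem hφ)
    have hd : c.DMap P' (fn φ') := by
      refine ⟨hP, f₁, f₂, c.pr₁_pre hθ hP ▸ h₁, c.pr₂_pre hθ hP ▸ h₂, fun a ha b hb hab => ?_⟩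
      have hx : ((a, b) : Ω × Ω) ∈ preimageAlong θ P' := (mem_pre hθ).2 ⟨⟨ha, hb⟩, hab⟩
      have h3 := hind ⟨(a, b), hx⟩
      rw [← fn_coe φ'] at h3
      have h4 := he (a, b) hx
      rw [fn_apply φ hx] at h4
      simp only [hθ, h4] at h3
      exact h3
    exact ⟨hd.toMap.mem_hom fun x => (fn_coe φ' x).symm, hd⟩

end Prod

variable [Finite S] [Fact p.Prime]

/-- The product is a central product of the factors. -/
theorem PCtx.isCentralProduct : IsCentralProductOf E₁ E₂ c.sys := by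
  obtain ⟨D₀, hD₀⟩ : ∃ D₀ : FusionSystem (T₁.prod T₂), IsProductSystem E₁ E₂ D₀ :=
    ⟨prodSys _ _, fun P φ => prodMap_iff _ _⟩
  obtain ⟨θ, hθ⟩ : ∃ θ : ↥(T₁.prod T₂) →* Ω,
      ∀ x : ↥(T₁.prod T₂), θ x = (x : Ω × Ω).1 * (x : Ω × Ω).2 :=
    ⟨MonoidHom.mk' (fun x => (x : Ω × Ω).1 * (x : Ω × Ω).2) fun x y => by
      show (x : Ω × Ω).1 * (y : Ω × Ω).1 * ((x : Ω × Ω).2 * (y : Ω × Ω).2) = _
      rw [mul_assoc, ← mul_assoc (y : Ω × Ω).1, c.comm _ y.2.1 _ x.2.2]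
      group, fun _ => rfl⟩
  obtain ⟨Z, hZd⟩ : ∃ Z, Z = θ.ker.map (T₁.prod T₂).subtype := ⟨_, rfl⟩
  have hZ : Z ≤ T₁.prod T₂ := hZd ▸ Subgroup.map_subtype_le _
  have hker : ∀ x : ↥(T₁.prod T₂), θ x = 1 ↔ (x : Ω × Ω) ∈ Z := by
    intro x
    subst hZd
    refine ⟨fun h => ⟨x, h, rfl⟩, fun ⟨y, hy, he⟩ => ?_⟩
    obtain rfl : y = x := Subtype.ext he
    exact hy
  have hmul : ∀ z ∈ Z, z.1 ∈ T₁ ⊓ T₂ ∧ z.2 ∈ T₂ ⊓ T₁ ∧ z.1 * z.2 = 1 := fun z hz => by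
    have h1 := (hker ⟨z, hZ hz⟩).2 hz
    rw [hθ] at h1
    have e : z.2 = z.1⁻¹ := (inv_eq_of_mul_eq_one_right h1).symm
    exact ⟨⟨(hZ hz).1, by simpa [e] using T₂.inv_mem (hZ hz).2⟩,
      ⟨(hZ hz).2, e ▸ T₁.inv_mem (hZ hz).1⟩, h1⟩
  have hZc : Z ≤ D₀.center := by
    refine le_sSup (α := Subgroup (Ω × Ω)) (show D₀.IsCentral Z from ⟨hZ, fun P φ hφ => ?_⟩)
    obtain ⟨hP, f₁, f₂, h₁, h₂, he⟩ := (prod_map_iff hD₀).1 (map_of_mem hφ)
    obtain ⟨g₁, hg₁, hg₁f, hg₁W⟩ := c.ext_sub h₁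
    obtain ⟨g₂, hg₂, hg₂f, hg₂W⟩ := c.symm.ext_sub h₂
    have hk₁ : Map E₁ (pr₁ (P ⊔ Z)) g₁ := hg₁.restrict (by
      show (P ⊔ Z).map _ ≤ _
      rw [Subgroup.map_sup]
      refine sup_le_sup le_rfl ?_
      rintro _ ⟨z, hz, rfl⟩
      exact (hmul z hz).1)
    have hk₂ : Map E₂ (pr₂ (P ⊔ Z)) g₂ := hg₂.restrict (by
      show (P ⊔ Z).map _ ≤ _
      rw [Subgroup.map_sup]
      refine sup_le_sup le_rfl ?_
      rintro _ ⟨z, hz, rfl⟩
      exact (hmul z hz).2.1)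
    obtain ⟨ψ, hψ, hψe⟩ := (prod_map_iff hD₀).2 ⟨sup_le hP hZ, g₁, g₂, hk₁, hk₂, fun x _ => rfl⟩
    refine ⟨ψ, hψ, fun x => ?_, fun z => ?_⟩
    · rw [hψe, ← fn_coe φ x, he x x.2]
      show (g₁ (x : Ω × Ω).1, g₂ (x : Ω × Ω).2) = _
      rw [hg₁f _ (mem_pr₁ x.2), hg₂f _ (mem_pr₂ x.2)]
    · rw [hψe]
      obtain ⟨hz₁, hz₂, -⟩ := hmul z z.2
      show (g₁ (z : Ω × Ω).1, g₂ (z : Ω × Ω).2) = _
      rw [hg₁W _ hz₁, hg₂W _ hz₂]
  refine ⟨D₀, hD₀, Z, θ, hZc, eq_bot_iff.2 ?_, eq_bot_iff.2 ?_,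
    fun x hx => by rw [hθ]; exact mul_one x, fun y hy => by rw [hθ]; exact one_mul y,
    hZ, hker, c.range_eq hθ, fun _ _ => c.hom_iff hθ hD₀⟩
  · rintro ⟨a, b⟩ ⟨hz, -, hb⟩
    obtain ⟨-, -, h1⟩ := hmul _ hz
    obtain rfl : b = 1 := Subgroup.mem_bot.1 hb
    exact Subgroup.mem_bot.2 (Prod.ext (by simpa using h1) rfl)
  · rintro ⟨a, b⟩ ⟨hz, ha, -⟩
    obtain ⟨-, -, h1⟩ := hmul _ hz
    obtain rfl : a = 1 := Subgroup.mem_bot.1 ha
    exact Subgroup.mem_bot.2 (Prod.ext rfl (by simpa using h1))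

theorem PCtx.sys_saturated : c.sys.IsSaturated p := by
  obtain ⟨D₀, hD₀, Z, θ, hZc, -, -, -, -, hfac⟩ := c.isCentralProduct
  haveI := finite_of_le c.t₁.1
  haveI := finite_of_le c.t₂.1
  haveI : Finite ↥(T₁.prod T₂) := Finite.of_equiv _ (Subgroup.prodEquiv T₁ T₂).toEquiv.symm
  have hp₁ : IsPGroup p T₁ := c.pS.to_le c.t₁.1
  have hp₂ : IsPGroup p T₂ := c.pS.to_le c.t₂.1
  have hp : IsPGroup p ↥(T₁.prod T₂) := by
    obtain ⟨a, ha⟩ := IsPGroup.iff_card.1 hp₁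
    obtain ⟨b, hb⟩ := IsPGroup.iff_card.1 hp₂
    refine IsPGroup.of_card (n := a + b) ?_
    rw [Nat.card_congr (Subgroup.prodEquiv T₁ T₂).toEquiv, Nat.card_prod, ha, hb, pow_add]
  have hDs : D₀.IsSaturated p := prod_saturated hp₁ hp₂ c.n₁.1.1 c.n₂.1.1 hD₀
  have hcl : D₀.StronglyClosed Z := stronglyClosed_iff.2 ⟨hfac.1, fun R f hR hf x hx => by
    rw [center_fixed D₀ (hZc (hR hx)) hf hx]; exact hR hx⟩
  exact fac_saturated hp hDs hcl hfac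

/-- The automorphisms of a factor extend to `U C(U)`. -/
theorem PCtx.ext_top {a : MulAut T₁} (ha : a ∈ E₁.autGroup T₁) :
    ∃ G, Map F (c.U ⊔ centralizerIn S c.U) G ∧ (∀ x ∈ T₁, G x = av a x) ∧ (∀ b ∈ T₂, G b = b) ∧
      ∀ z ∈ centralizerIn S c.U, z⁻¹ * G z ∈ T₁ ⊓ Subgroup.centralizer (T₁ : Set Ω) := by
  obtain ⟨L, hL⟩ : ∃ L, L = c.U ⊔ centralizerIn S c.U := ⟨_, rfl⟩
  rw [← hL]
  have hLS : L ≤ S := hL ▸ sup_le c.uS inf_le_left
  haveI := finite_of_le hLS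
  haveI := finite_of_le c.t₁.1
  haveI := mulAut_finite_of_le c.t₁.1
  have h1L : T₁ ≤ L := hL ▸ le_sup_left.trans le_sup_left
  have h2L : T₂ ≤ L := hL ▸ le_sup_right.trans le_sup_left
  have hzL : centralizerIn S c.U ≤ L := hL ▸ le_sup_right
  let X : MulAut T₁ → (Ω → Ω) → Prop := fun a G => Map F L G ∧ (∀ x ∈ T₁, G x = av a x) ∧
    (∀ b ∈ T₂, G b = b) ∧ ∀ z ∈ centralizerIn S c.U, z⁻¹ * G z ∈ T₁ ⊓ Subgroup.centralizer (T₁ : Set Ω)
  have himL : ∀ a G, X a G → im L G = L := fun a G ⟨hG, hGa, hGb, hGz⟩ => by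
    refine Subgroup.eq_of_le_of_card_ge ?_ hG.card_im.ge
    conv => arg 2; rw [hL]
    have h : L = T₁ ⊔ T₂ ⊔ centralizerIn S c.U := hL
    conv => arg 1; arg 1; rw [h]
    refine (h ▸ hG).im_sup_le.trans (sup_le (((h ▸ hG).restrict le_sup_left).im_sup_le.trans
      (sup_le ?_ ?_)) ?_) <;> refine im_le_iff.2 fun y hy => ?_
    · rw [hGa y hy]; exact Subgroup.mem_sup_left (Subgroup.mem_sup_left (av_mem a hy))
    · rw [hGb y hy]; exact Subgroup.mem_sup_left (Subgroup.mem_sup_right hy)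
    · rw [← mul_inv_cancel_left y (G y)]
      exact Subgroup.mul_mem _ (Subgroup.mem_sup_right hy)
        (Subgroup.mem_sup_left (Subgroup.mem_sup_left (hGz y hy).1))
  let H : Subgroup (MulAut T₁) :=
    { carrier := {a | a ∈ E₁.autGroup T₁ ∧ ∃ G, X a G}
      one_mem' := ⟨Subgroup.one_mem _, fun x => x, (map_conjBy hLS S.one_mem).congr fun x _ => by group,
        fun x hx => (av_one hx).symm, fun _ _ => rfl, fun z _ => by rw [inv_mul_cancel]; exact Subgroup.one_mem _⟩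
      mul_mem' := by
        rintro a b ⟨ha, G, hG⟩ ⟨hb, K, hK⟩
        obtain ⟨hKm, hKa, hKb, hKz⟩ := id hK
        obtain ⟨hGm, hGa, hGb, hGz⟩ := id hG
        refine ⟨Subgroup.mul_mem _ ha hb, G ∘ K, hKm.comp hGm fun x hx => (himL b K hK).le (mem_im_of_mem hx),
          fun x hx => ?_, fun y hy => ?_, fun z hz => ?_⟩
        · show G (K x) = _
          rw [hKa x hx, hGa _ (av_mem b hx), av_mul _ _ hx]
        · show G (K y) = y
          rw [hKb y hy, hGb y hy]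
        · show z⁻¹ * G (K z) ∈ _
          obtain ⟨w, hw⟩ : ∃ w, w = z⁻¹ * K z := ⟨_, rfl⟩
          have hw' := hKz z hz
          rw [← hw] at hw'
          rw [show K z = z * w by rw [hw, mul_inv_cancel_left], hGm.map_mul (hzL hz) (h1L hw'.1), ← mul_assoc]
          refine Subgroup.mul_mem _ (hGz z hz) ⟨?_, Subgroup.mem_centralizer_iff.2 fun t ht => ?_⟩
          · rw [hGa w hw'.1]; exact av_mem a hw'.1
          · have hm := map_of_mem_autGroup le_rfl ha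
            rw [hGa w hw'.1, ← av_av_inv a ht, ← hm.map_mul (av_mem a⁻¹ ht) hw'.1,
              Subgroup.mem_centralizer_iff.1 hw'.2 _ (av_mem a⁻¹ ht), hm.map_mul hw'.1 (av_mem a⁻¹ ht)]
      inv_mem' := by
        rintro a ⟨ha, G, hG⟩
        obtain ⟨hGm, hGa, hGb, hGz⟩ := id hG
        obtain ⟨l, hl, hlG, hGl, -⟩ := hGm.exists_inv
        rw [himL a G hG] at hl hGl
        refine ⟨Subgroup.inv_mem _ ha, l, hl, fun x hx => ?_, fun y hy => ?_, fun z hz => ?_⟩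
        · rw [← hlG (av a⁻¹ x) (h1L (av_mem _ hx)), hGa _ (av_mem _ hx), av_av_inv a hx]
        · conv_lhs => rw [← hGb y hy]
          exact hlG y (h2L hy)
        · obtain ⟨w, hw⟩ : ∃ w, w = z⁻¹ * G z := ⟨_, rfl⟩
          have hw' := hGz z hz
          rw [← hw] at hw'
          obtain ⟨v, hv⟩ : ∃ v, v = av a⁻¹ w := ⟨_, rfl⟩
          have hvT : v ∈ T₁ := hv ▸ av_mem _ hw'.1
          have h1 : l z = z * v⁻¹ := by
            rw [← hlG (z * v⁻¹) (L.mul_mem (hzL hz) (L.inv_mem (h1L hvT))),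
              hGm.map_mul (hzL hz) (L.inv_mem (h1L hvT)), hGm.map_inv (h1L hvT), hGa v hvT, hv,
              av_av_inv a hw'.1, hw, mul_inv_rev, inv_inv, mul_inv_cancel_left]
          rw [h1, inv_mul_cancel_left]
          refine ⟨T₁.inv_mem hvT, Subgroup.inv_mem _ (Subgroup.mem_centralizer_iff.2 fun t ht => ?_)⟩
          have hm := map_of_mem_autGroup le_rfl (Subgroup.inv_mem _ ha)
          rw [hv, ← av_inv_av a ht, ← hm.map_mul (av_mem a ht) hw'.1,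
            Subgroup.mem_centralizer_iff.1 hw'.2 _ (av_mem a ht), hm.map_mul hw'.1 (av_mem a ht)] }
  suffices E₁.autGroup T₁ ≤ H from (this ha).2
  refine le_of_sylIn (fa_iff.1 (fc_fa_of_fn (c.pS.to_le c.t₁.1) c.n₁.1.1 fn_self).2).2 ?_ ?_
  · intro b hb
    obtain ⟨t, ht, he⟩ := mem_autInducedBy.1 hb
    refine ⟨autInducedBy_le_autGroup le_rfl hb, fun x => t * x * t⁻¹, map_conjBy hLS (c.t₁.1 ht),
      fun x hx => (he x hx).symm, fun y hy => c.conj_fix ht hy, fun z hz => ?_⟩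
    show z⁻¹ * (t * z * t⁻¹) ∈ _
    rw [(mem_centralizerIn.1 hz).2 t (Subgroup.mem_sup_left ht), mul_inv_cancel_right, inv_mul_cancel]
    exact Subgroup.one_mem _
  · intro b hb hbo
    obtain ⟨β, hβ, hβo, hβT, hβs⟩ := exists_pPrime_ext c.n₁ hb hbo
    have hHS : T₁ ⊔ centralizerIn S T₁ ≤ S := sup_le c.t₁.1 inf_le_left
    haveI := finite_of_le hHS
    have hm := map_of_mem_autGroup hHS hβ
    have h2H : T₂ ≤ T₁ ⊔ centralizerIn S T₁ := fun y hy => Subgroup.mem_sup_right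
      (mem_centralizerIn.2 ⟨c.t₂.1 hy, fun x hx => c.comm x hx y hy⟩)
    have hfix : ∀ y ∈ T₂, av β y = y := by
      intro y hy
      obtain ⟨w, hw⟩ : ∃ w, w = y⁻¹ * av β y := ⟨_, rfl⟩
      have hwW : w ∈ T₁ ⊓ T₂ := hw ▸ ⟨hβs y (mem_centralizerIn.2 ⟨c.t₂.1 hy, fun x hx => c.comm x hx y hy⟩),
        T₂.mul_mem (T₂.inv_mem hy) (stronglyClosed_map c.t₂ hm (h2H hy) hy)⟩
      have hβw : av β w = w := by
        rw [hβT w hwW.1, c.fixed (map_of_mem_autGroup le_rfl hb) hwW.1 hwW]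
      have hyw : av β y = y * w := by rw [hw, mul_inv_cancel_left]
      have hind : ∀ n : ℕ, av (β ^ n) y = y * w ^ n := by
        intro n
        induction n with
        | zero => rw [pow_zero, pow_zero, av_one (h2H hy), mul_one]
        | succ n ih =>
          have hpw : ∀ i : ℕ, av β (w ^ i) = w ^ i := fun i => by
            have hi := Subgroup.pow_mem _ hwW i
            rw [hβT _ hi.1, c.fixed (map_of_mem_autGroup le_rfl hb) hi.1 hi]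
          rw [pow_succ', av_mul _ _ (h2H hy), ih, hm.map_mul (h2H hy)
            (Subgroup.pow_mem _ (Subgroup.mem_sup_left hwW.1) n), hyw, hpw, pow_succ', mul_assoc]
      have h4 := hind (orderOf β)
      rw [pow_orderOf_eq_one, av_one (h2H hy), eq_comm, mul_eq_left] at h4
      obtain ⟨k, hk⟩ := c.pS ⟨w, c.t₂.1 hwW.2⟩
      have h5 : w = 1 := orderOf_eq_one_iff.1 (Nat.eq_one_of_dvd_coprimes (hβo.pow_right k)
        (orderOf_dvd_of_pow_eq_one h4) (orderOf_dvd_of_pow_eq_one (congrArg Subtype.val hk)))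
      rw [hyw, h5, mul_one]
    have hCle : centralizerIn S c.U ≤ centralizerIn S T₁ := fun z hz =>
      mem_centralizerIn.2 ⟨hz.1, fun x hx => (mem_centralizerIn.1 hz).2 x (Subgroup.mem_sup_left hx)⟩
    refine ⟨hb, av β, hm.restrict (hL ▸ sup_le (sup_le le_sup_left h2H) (hCle.trans le_sup_right)),
      hβT, hfix, fun z hz => ⟨hβs z (hCle hz), Subgroup.mem_centralizer_iff.2 fun x hx => ?_⟩⟩
    have hzc := hCle hz
    have hx' : x ∈ T₁ := hx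
    have h1 : av β z * x = x * av β z := by
      have hxm : av b⁻¹ x ∈ T₁ := av_mem _ hx'
      rw [← av_av_inv b hx', ← hβT _ hxm, ← hm.map_mul (Subgroup.mem_sup_right hzc) (Subgroup.mem_sup_left hxm),
        ← (mem_centralizerIn.1 hzc).2 _ hxm, hm.map_mul (Subgroup.mem_sup_left hxm) (Subgroup.mem_sup_right hzc)]
    rw [← mul_assoc x, ← inv_inv x, ← mul_inv_rev, inv_inv,
      (show z * x⁻¹ = x⁻¹ * z from ((mem_centralizerIn.1 hzc).2 _ (T₁.inv_mem hx')).symm), mul_inv_rev, inv_inv,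
      mul_assoc, mul_assoc, h1]

/-- The extension condition. -/
theorem PCtx.sys_extension {a : MulAut c.U} (ha : a ∈ c.sys.autGroup c.U) :
    ∃ β ∈ F.autGroup (c.U ⊔ centralizerIn S c.U),
      (∀ x : c.U, ((β (Subgroup.inclusion le_sup_left x) : ↥(c.U ⊔ centralizerIn S c.U)) : Ω) = ((a x : c.U) : Ω)) ∧
      ∀ z : ↥(c.U ⊔ centralizerIn S c.U), (z : Ω) ∈ centralizerIn S c.U →
        (z : Ω)⁻¹ * ((β z : ↥(c.U ⊔ centralizerIn S c.U)) : Ω) ∈ c.U ⊓ Subgroup.centralizer (c.U : Set Ω) := by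
  haveI := finite_of_le c.uS
  haveI := finite_of_le c.t₁.1
  haveI := finite_of_le c.t₂.1
  obtain ⟨-, g₁, g₂, h₁, h₂, hga⟩ := c.map_sys.1 (map_of_mem_autGroup le_rfl ha)
  have hT₁ : T₁ ≤ pj T₁ T₂ c.U := le_inf (le_sup_left.trans le_sup_left) le_rfl
  have hT₂ : T₂ ≤ pj T₂ T₁ c.U := le_inf (le_sup_right.trans le_sup_left) le_rfl
  have h₁' := h₁.restrict hT₁
  have h₂' := h₂.restrict hT₂
  obtain ⟨e₁, he₁, heg₁⟩ := exists_aut h₁'
    (Subgroup.eq_of_le_of_card_ge (im_le_iff.2 fun x hx => h₁'.mem hx) h₁'.card_im.ge)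
  obtain ⟨e₂, he₂, heg₂⟩ := exists_aut h₂'
    (Subgroup.eq_of_le_of_card_ge (im_le_iff.2 fun x hx => h₂'.mem hx) h₂'.card_im.ge)
  obtain ⟨G₁, hG₁, hG₁a, hG₁b, hG₁z⟩ := c.ext_top he₁
  have h2 := c.symm.ext_top he₂
  rw [show c.symm.U = c.U from sup_comm T₂ T₁] at h2
  obtain ⟨G₂, hG₂, hG₂a, hG₂b, hG₂z⟩ := h2
  haveI := finite_of_le (sup_le c.uS inf_le_left : c.U ⊔ centralizerIn S c.U ≤ S)
  have hG₂L : ∀ x ∈ c.U ⊔ centralizerIn S c.U, G₂ x ∈ c.U ⊔ centralizerIn S c.U := fun x hx => by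
    refine (show im c.U G₂ ⊔ im (centralizerIn S c.U) G₂ ≤ _ from sup_le (im_le_iff.2 fun y hy => ?_)
      (im_le_iff.2 fun y hy => ?_)) (hG₂.im_sup_le (mem_im_of_mem hx))
    · obtain ⟨u, hu, v, hv, rfl⟩ := c.exists_split hy
      rw [hG₂.map_mul (Subgroup.mem_sup_left (Subgroup.mem_sup_left hu))
        (Subgroup.mem_sup_left (Subgroup.mem_sup_right hv)), hG₂b u hu, hG₂a v hv]
      exact Subgroup.mem_sup_left (Subgroup.mul_mem_sup hu (av_mem _ hv))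
    · rw [← mul_inv_cancel_left y (G₂ y)]
      exact Subgroup.mul_mem _ (Subgroup.mem_sup_right hy)
        (Subgroup.mem_sup_left (Subgroup.mem_sup_right (hG₂z y hy).1))
  have hm := hG₂.comp hG₁ hG₂L
  have hval : ∀ x ∈ c.U, G₁ (G₂ x) = av a x := fun x hx => by
    obtain ⟨u, hu, v, hv, rfl⟩ := c.exists_split hx
    have hv2 : av e₂ v ∈ T₂ := av_mem _ hv
    rw [hG₂.map_mul (Subgroup.mem_sup_left (Subgroup.mem_sup_left hu))
      (Subgroup.mem_sup_left (Subgroup.mem_sup_right hv)), hG₂b u hu, hG₂a v hv,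
      hG₁.map_mul (Subgroup.mem_sup_left (Subgroup.mem_sup_left hu))
      (Subgroup.mem_sup_left (Subgroup.mem_sup_right hv2)), hG₁a u hu, hG₁b _ hv2, heg₁ u hu, heg₂ v hv,
      hga u hu v hv hx]
  have hshift : ∀ z ∈ centralizerIn S c.U,
      z⁻¹ * G₁ (G₂ z) ∈ c.U ⊓ Subgroup.centralizer (c.U : Set Ω) := fun z hz => by
    obtain ⟨w, hw⟩ : ∃ w, w = z⁻¹ * G₂ z := ⟨_, rfl⟩
    have hw' := hG₂z z hz
    rw [← hw] at hw'
    rw [show G₂ z = z * w by rw [hw, mul_inv_cancel_left],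
      hG₁.map_mul (Subgroup.mem_sup_right hz) (Subgroup.mem_sup_left (Subgroup.mem_sup_right hw'.1)),
      hG₁b w hw'.1, ← mul_assoc]
    obtain ⟨h3, h3c⟩ := hG₁z z hz
    refine ⟨Subgroup.mul_mem_sup h3 hw'.1, Subgroup.mem_centralizer_iff.2 fun y hy => ?_⟩
    obtain ⟨u, hu, v, hv, rfl⟩ := c.exists_split hy
    have i1 := Subgroup.mem_centralizer_iff.1 h3c u hu
    have i2 := Subgroup.mem_centralizer_iff.1 hw'.2 v hv
    have i3 := c.comm _ h3 v hv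
    have i4 := c.comm u hu _ hw'.1
    calc u * v * (z⁻¹ * G₁ z * w) = u * (v * (z⁻¹ * G₁ z)) * w := by group
      _ = u * (z⁻¹ * G₁ z * v) * w := by rw [i3]
      _ = (u * (z⁻¹ * G₁ z)) * (v * w) := by group
      _ = (z⁻¹ * G₁ z * u) * (w * v) := by rw [i1, i2]
      _ = z⁻¹ * G₁ z * (u * w) * v := by group
      _ = z⁻¹ * G₁ z * (w * u) * v := by rw [i4]
      _ = _ := by group
  obtain ⟨β, hβ, hβe⟩ := exists_aut hm (Subgroup.eq_of_le_of_card_ge (hm.im_sup_le.trans (sup_le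
    ((im_le_iff.2 fun x hx => by
      show G₁ (G₂ x) ∈ c.U
      rw [hval x hx]; exact av_mem a hx).trans le_sup_left)
    (im_le_iff.2 fun x hx => by
      show G₁ (G₂ x) ∈ c.U ⊔ centralizerIn S c.U
      rw [← mul_inv_cancel_left x (G₁ (G₂ x))]
      exact Subgroup.mul_mem _ (Subgroup.mem_sup_right hx) (Subgroup.mem_sup_left (hshift x hx).1)))) hm.card_im.ge)
  refine ⟨β, hβ, fun x => ?_, fun z hz => ?_⟩
  · show ((β ⟨x, _⟩ : ↥(c.U ⊔ centralizerIn S c.U)) : Ω) = _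
    rw [← av_apply β (Subgroup.mem_sup_left x.2), hβe x (Subgroup.mem_sup_left x.2)]
    show G₁ (G₂ x) = _
    rw [hval x x.2, av_apply a x.2]
  · rw [← av_apply β z.2, hβe z z.2]
    exact hshift z hz

theorem PCtx.sys_normal : c.sys.IsNormalIn F p :=
  ⟨⟨c.sys_saturated, c.sat, c.sys_invariant⟩, fun _ ha => c.sys_extension ha⟩

end Cfsg.Agent.Local.FS.Commute
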