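import Cfsg.Agent.Lib.Local.FS.Commute.Product
import Cfsg.Agent.Lib.Local.FS.WeakSeries
import Cfsg.Agent.Lib.Local.FS.Solvable
import Mathlib.GroupTheory.Nilpotent

/-!
The product of two commuting normal subsystems is invariant.
-/

set_option autoImplicit false

namespace Cfsg.Agent.Local.FS.Commute

open Cfsg Cfsg.FusionSystem Cfsg.Agent.Fusion Cfsg.Agent.Local.FS

universe u

variable {Ω : Type u} [Group Ω] {S T₁ T₂ : Subgroup Ω} {F : FusionSystem S} {E₁ : FusionSystem T₁}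
  {E₂ : FusionSystem T₂} {P R : Subgroup Ω} {f g : Ω → Ω} {p : ℕ} [Finite S] [Fact p.Prime]
  (c : PCtx F E₁ E₂ p)
include c

theorem PCtx.inf_le_centric_radical (hC : F.IsCentric R) (hR : F.IsRadical p R) : T₁ ⊓ T₂ ≤ R := by
  refine normal_le_centric_radical c.pS (normal_of_abelian_stronglyClosed c.pS c.sat
    (stronglyClosed_iff.2 ⟨inf_le_left.trans c.t₁.1, fun P f hP hf x hx => ⟨?_, ?_⟩⟩)
    fun a ha b hb => c.comm a ha.1 b hb.2) hC hR
  · exact (stronglyClosed_iff.1 c.t₁).2 P f (hP.trans inf_le_left) hf x hx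
  · exact (stronglyClosed_iff.1 c.t₂).2 P f (hP.trans inf_le_right) hf x hx

/-- The first projection of a centric radical subgroup lies in it. -/
theorem PCtx.pj_le (hC : F.IsCentric R) (hR : F.IsRadical p R) :
    pj T₁ T₂ (R ⊓ c.U) ≤ R := by
  obtain ⟨K, hKd⟩ : ∃ K, K = R ⊓ c.U := ⟨_, rfl⟩
  rw [← hKd]
  have hKR : K ≤ R := hKd ▸ inf_le_left
  have hKU : K ≤ c.U := hKd ▸ inf_le_right
  have hU := stronglyClosed_sup c.pS c.sat c.t₁ c.t₂
  have hmemK : ∀ x ∈ R, x ∈ c.U → x ∈ K := fun x h h' => hKd ▸ ⟨h, h'⟩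
  have hPS : pj T₁ T₂ K ≤ S := inf_le_right.trans c.t₁.1
  have hRn : R ≤ Subgroup.normalizer (pj T₁ T₂ K : Set Ω) := fun r hr =>
    mem_normalizer_of_conj_mem hPS fun a ha => by
      obtain ⟨b, hb, hab⟩ := c.exists_pj hKU ha
      refine mem_pj (stronglyClosed_conj_mem c.t₁ (hC.1 hr) ha.2)
        (stronglyClosed_conj_mem c.t₂ (hC.1 hr) hb) (hmemK _ ?_ ?_)
      · simpa [mul_assoc] using R.mul_mem (R.mul_mem hr (hKR hab)) (R.inv_mem hr)
      · exact Subgroup.mul_mem_sup (stronglyClosed_conj_mem c.t₁ (hC.1 hr) ha.2)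
          (stronglyClosed_conj_mem c.t₂ (hC.1 hr) hb)
  suffices key : ∀ x ∈ pj T₁ T₂ K, x ∈ Subgroup.normalizer (R : Set Ω) → x ∈ R by
    by_contra hle
    have hlt : R < R ⊔ pj T₁ T₂ K := lt_of_le_not_ge le_sup_left fun h => hle (le_sup_right.trans h)
    obtain ⟨x, ⟨hx, hxn⟩, hxR⟩ := SetLike.exists_of_lt (lt_inf_normalizer c.pS hlt (sup_le hC.1 hPS))
    obtain ⟨a, ha, b, hb, rfl⟩ := mem_sup_of_normalized hRn le_rfl hx
    have h1 := Subgroup.mul_mem _ (Subgroup.inv_mem _ (Subgroup.le_normalizer ha)) hxn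
    rw [inv_mul_cancel_left] at h1
    exact hxR (R.mul_mem ha (key b hb h1))
  intro x hxp hxn
  have hxS := hPS hxp
  have hxT := hxp.2
  have hT₂n : S ≤ Subgroup.normalizer (T₂ : Set Ω) := stronglyClosed_le_normalizer c.t₂
  obtain ⟨k, hk, t, ht, hxkt⟩ := mem_sup_of_normalized hT₂n (hKU.trans c.uS) hxp.1
  haveI := finite_of_le hC.1
  haveI := finite_of_le (hKR.trans hC.1)
  haveI : Group.IsNilpotent K := IsPGroup.isNilpotent (p := p) (c.pS.to_le (hKR.trans hC.1))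
  obtain ⟨n, hn⟩ := (Subgroup.isNilpotent_iff_lowerCentralSeries (S := K)).1 inferInstance
  have hLK : ∀ i, K.lowerCentralSeries i ≤ K := fun i => K.lowerCentralSeries_antitone (Nat.zero_le i)
  have hKn : ∀ i, K ≤ Subgroup.normalizer (K.lowerCentralSeries i : Set Ω) :=
    K.self_le_normalizer_lowerCentralSeries
  let D : ℕ → Subgroup Ω := fun j =>
    if j = 0 then ⊥ else if j ≤ n + 1 then K.lowerCentralSeries (n + 1 - j) ⊔ K ⊓ T₂ else R
  have hD1 : ∀ j, j ≠ 0 → j ≤ n + 1 → D j = K.lowerCentralSeries (n + 1 - j) ⊔ K ⊓ T₂ := fun j h h' =>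
    (if_neg h).trans (if_pos h')
  have hD2 : ∀ j, n + 1 < j → D j = R := fun j h => (if_neg (by omega)).trans (if_neg (by omega))
  have hmono : Monotone D := monotone_nat_of_le_succ fun j => by
    rcases Nat.eq_zero_or_pos j with rfl | hj
    · exact bot_le.trans' (if_pos rfl).le
    rcases Nat.lt_or_ge j (n + 1) with h | h
    · rw [hD1 j hj.ne' h.le, hD1 (j + 1) (by omega) h]
      exact sup_le_sup_right (K.lowerCentralSeries_antitone (by omega)) _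
    · rw [hD2 (j + 1) (by omega)]
      rcases eq_or_lt_of_le h with h' | h'
      · rw [hD1 j hj.ne' h'.ge]
        exact sup_le ((hLK _).trans hKR) (inf_le_left.trans hKR)
      · rw [hD2 j h']
  have hKinv : ∀ α ∈ F.autGroup R, ∀ y ∈ K, av α y ∈ K := fun α hα y hy =>
    hmemK _ (av_mem α (hKR hy)) (stronglyClosed_map hU (map_of_mem_autGroup hC.1 hα) (hKR hy) (hKU hy))
  have hTinv : ∀ α ∈ F.autGroup R, ∀ y ∈ K ⊓ T₂, av α y ∈ K ⊓ T₂ := fun α hα y hy =>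
    ⟨hKinv α hα y hy.1, stronglyClosed_map c.t₂ (map_of_mem_autGroup hC.1 hα) (hKR hy.1) hy.2⟩
  have hLinv : ∀ α ∈ F.autGroup R, ∀ i, ∀ y ∈ K.lowerCentralSeries i, av α y ∈ K.lowerCentralSeries i := by
    intro α hα i y hy
    have hm := map_of_mem_autGroup hC.1 hα
    have e1 : (K.subgroupOf R).map (R.subtype.comp α.toMonoidHom) = K := by
      rw [map_subgroupOf_eq_im hKR (fun z => (av_coe α z).symm)]
      exact Subgroup.eq_of_le_of_card_ge (im_le_iff.2 (hKinv α hα)) (hm.restrict hKR).card_im.ge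
    have h1 : K.lowerCentralSeries i = ((K.subgroupOf R).lowerCentralSeries i).map R.subtype := by
      rw [Subgroup.map_lowerCentralSeries, Subgroup.map_subgroupOf_eq_of_le hKR]
    rw [h1] at hy
    obtain ⟨z, hz, rfl⟩ := hy
    have h2 : (R.subtype.comp α.toMonoidHom) z ∈
        ((K.subgroupOf R).lowerCentralSeries i).map (R.subtype.comp α.toMonoidHom) := ⟨z, hz, rfl⟩
    rw [Subgroup.map_lowerCentralSeries, e1] at h2
    rw [show av α (R.subtype z) = (R.subtype.comp α.toMonoidHom) z from av_coe α z]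
    exact h2
  refine mem_of_stabilizes_weakSeries c.pS hC hR D (n + 2) (if_pos rfl) (hD2 _ (by omega)).ge hmono ?_
    hxS hxn fun j hj y hy hyD => ?_
  · intro j α hα y hy hyD
    rcases Nat.eq_zero_or_pos j with rfl | hj
    · simp only [D, if_pos] at hyD ⊢
      rw [Subgroup.mem_bot] at hyD ⊢
      rw [hyD, (map_of_mem_autGroup hC.1 hα).map_one]
    rcases Nat.lt_or_ge (n + 1) j with h | h
    · rw [hD2 j h]; exact av_mem α hy
    rw [hD1 j hj.ne' h] at hyD ⊢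
    have hm := (map_of_mem_autGroup hC.1 hα).restrict
      (show K.lowerCentralSeries (n + 1 - j) ⊔ K ⊓ T₂ ≤ R from
        sup_le ((hLK _).trans hKR) (inf_le_left.trans hKR))
    exact (show im _ (av α) ⊔ im _ (av α) ≤ _ from
      sup_le_sup (im_le_iff.2 (hLinv α hα _)) (im_le_iff.2 (hTinv α hα)))
      (hm.im_sup_le (mem_im_of_mem hyD))
  · have hfix : ∀ z ∈ K ⊓ T₂, z⁻¹ * (x * z * x⁻¹) = 1 := fun z hz => by
      rw [c.conj_fix hxT hz.2, inv_mul_cancel]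
    rcases Nat.eq_zero_or_pos j with rfl | hj0
    · rw [hD1 1 one_ne_zero (by omega), Nat.add_sub_cancel, hn, bot_sup_eq] at hyD
      rw [hfix y hyD]; exact Subgroup.one_mem _
    rcases Nat.lt_or_ge n j with h | h
    · obtain rfl : j = n + 1 := by omega
      rw [hD1 (n + 1) (by omega) le_rfl, Nat.sub_self]
      refine Subgroup.mem_sup_left (hmemK _ (R.mul_mem (R.inv_mem hy) (conj_mem_of_normalizer hxn hy)) ?_)
      have h1 := T₁.mul_mem (stronglyClosed_conj_mem c.t₁ (S.inv_mem (hC.1 hy)) hxT) (T₁.inv_mem hxT)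
      exact Subgroup.mem_sup_left (by simpa [mul_assoc] using h1)
    rw [hD1 (j + 1) (by omega) (by omega)] at hyD
    rw [hD1 j hj0.ne' (by omega)]
    have he : n + 1 - j = n + 1 - (j + 1) + 1 := by omega
    rw [he]
    generalize n + 1 - (j + 1) = i at hyD ⊢
    obtain ⟨l, hl, z, hz, rfl⟩ := mem_sup_of_normalized (hKn i) inf_le_left (sup_comm (K.lowerCentralSeries i) _ ▸ hyD)
    obtain ⟨a, ha, b, hb, rfl⟩ := c.exists_split (hKU (hLK i hz))
    have hxb : x * b * x⁻¹ = b := c.conj_fix hxT hb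
    have hta : t * a * t⁻¹ = a := by rw [← c.comm a ha t ht, mul_inv_cancel_right]
    obtain ⟨d, hdd⟩ : ∃ d, d = k * b⁻¹ * k⁻¹ * b := ⟨_, rfl⟩
    have hd : d ∈ T₂ := hdd ▸ T₂.mul_mem (stronglyClosed_conj_mem c.t₂ (c.uS (hKU hk)) (T₂.inv_mem hb)) hb
    have e : x * (a * b) * x⁻¹ = k * (a * b) * k⁻¹ * d := by
      calc x * (a * b) * x⁻¹ = x * a * x⁻¹ * (x * b * x⁻¹) := by group
        _ = k * (t * a * t⁻¹) * k⁻¹ * b := by rw [hxb, ← hxkt]; group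
        _ = _ := by rw [hta, hdd]; group
    have hxR : x * (a * b) * x⁻¹ ∈ R := conj_mem_of_normalizer hxn (hKR (hLK i hz))
    have hkK : k * (a * b) * k⁻¹ ∈ K := K.mul_mem (K.mul_mem hk (hLK i hz)) (K.inv_mem hk)
    have hdK : d ∈ K := hmemK d (by
      have h2 := R.mul_mem (R.inv_mem (hKR hkK)) hxR
      rwa [e, inv_mul_cancel_left] at h2)
      (Subgroup.mem_sup_right hd)
    have hgoal : (l * (a * b))⁻¹ * (x * (l * (a * b)) * x⁻¹) =
        (a * b)⁻¹ * (k * (a * b) * k⁻¹) * d := by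
      calc (l * (a * b))⁻¹ * (x * (l * (a * b)) * x⁻¹)
          = (a * b)⁻¹ * (l⁻¹ * (x * l * x⁻¹)) * (x * (a * b) * x⁻¹) := by group
        _ = _ := by rw [hfix l hl, e]; group
    rw [hgoal]
    refine Subgroup.mul_mem_sup ?_ ⟨hdK, hd⟩
    have h1 := Subgroup.commutator_mem_commutator (Subgroup.inv_mem _ hz) hk
    rw [← Subgroup.lowerCentralSeries_succ] at h1
    simpa [commutatorElement_def, mul_assoc] using h1

/-- Automorphisms of centric radical subgroups carry maps of the product to maps of the product. -/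
theorem PCtx.good_gen (hC : F.IsCentric R) (hR : F.IsRadical p R) {α : MulAut R} (hα : α ∈ F.autGroup R)
    (hP : P ≤ R) (hf : c.DMap P f) (hfR : ∀ x ∈ P, f x ∈ R) :
    ∃ h, c.DMap (im P (av α)) h ∧ ∀ x ∈ P, h (av α x) = av α (f x) := by
  obtain ⟨hPU, g₁, g₂, h₁, h₂, hf⟩ := hf
  have hW := c.inf_le_centric_radical hC hR
  have hle₁ : pj T₁ T₂ (R ⊓ c.U) ≤ R := c.pj_le hC hR
  have hle₂ : pj T₂ T₁ (R ⊓ c.U) ≤ R := by
    have h := c.symm.pj_le hC hR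
    rwa [show c.symm.U = c.U from sup_comm T₂ T₁] at h
  have hPU' : P ≤ R ⊓ c.U := le_inf hP hPU
  have hfU : ∀ a ∈ T₁, ∀ b ∈ T₂, a * b ∈ P → g₁ a * g₂ b ∈ R ⊓ c.U := fun a ha b hb hab =>
    ⟨hf a ha b hb hab ▸ hfR _ hab,
      Subgroup.mul_mem_sup (h₁.mem (mem_pj ha hb hab)) (h₂.mem (c.mem_pj' ha hb hab))⟩
  have hg₁R : ∀ a ∈ pj T₁ T₂ P, g₁ a ∈ R ⊓ T₁ := fun a ha => by
    obtain ⟨b, hb, hab⟩ := c.exists_pj hPU ha
    exact ⟨hle₁ (mem_pj (h₁.mem ha) (h₂.mem (c.mem_pj' ha.2 hb hab)) (hfU a ha.2 b hb hab)), h₁.mem ha⟩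
  have hg₂R : ∀ b ∈ pj T₂ T₁ P, g₂ b ∈ R ⊓ T₂ := fun b hb => by
    obtain ⟨a, ha, hba⟩ := c.symm.exists_pj (hPU.trans (sup_comm T₁ T₂).le) hb
    rw [c.symm.comm b hb.2 a ha] at hba
    exact ⟨hle₂ (c.mem_pj' (h₁.mem (mem_pj ha hb.2 hba)) (h₂.mem hb) (hfU a ha b hb.2 hba)), h₂.mem hb⟩
  have hm := map_of_mem_autGroup hC.1 hα
  have hi₁ : pj T₁ T₂ P ≤ R ⊓ T₁ := le_inf ((pj_mono hPU').trans hle₁) inf_le_right
  have hi₂ : pj T₂ T₁ P ≤ R ⊓ T₂ := le_inf ((pj_mono hPU').trans hle₂) inf_le_right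
  obtain ⟨k₁, hk₁, hk₁e⟩ := (isInvariantIn_iff c.pS c.sat c.n₁.1.2.2.1 c.t₁).1 c.n₁.1.2.2 _ (R ⊓ T₁) g₁
    (av α) hi₁ inf_le_right h₁ hg₁R (hm.restrict inf_le_left)
  obtain ⟨k₂, hk₂, hk₂e⟩ := (isInvariantIn_iff c.pS c.sat c.n₂.1.2.2.1 c.t₂).1 c.n₂.1.2.2 _ (R ⊓ T₂) g₂
    (av α) hi₂ inf_le_right h₂ hg₂R (hm.restrict inf_le_left)
  have key : ∀ a' ∈ T₁, ∀ b' ∈ T₂, a' * b' ∈ im P (av α) → ∃ a ∈ pj T₁ T₂ P, ∃ b ∈ pj T₂ T₁ P,
      av α a = a' ∧ av α b = b' ∧ a * b ∈ P := by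
    intro a' ha' b' hb' hab'
    obtain ⟨x, hx, hxe⟩ := (hm.restrict hP).mem_im.1 hab'
    obtain ⟨a, ha, b, hb, rfl⟩ := c.exists_split (hPU hx)
    have haR := hi₁ (mem_pj ha hb hx)
    have hbR := hi₂ (c.mem_pj' ha hb hx)
    rw [hm.map_mul haR.1 hbR.1] at hxe
    have haT := stronglyClosed_map c.t₁ hm haR.1 ha
    have hbT := stronglyClosed_map c.t₂ hm hbR.1 hb
    obtain ⟨w, hwd⟩ : ∃ w, w = (av α a)⁻¹ * a' := ⟨_, rfl⟩
    have hwe : w = av α b * b'⁻¹ := by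
      rw [hwd, inv_mul_eq_iff_eq_mul, ← mul_assoc, hxe, mul_inv_cancel_right]
    have hw : w ∈ T₁ ⊓ T₂ := ⟨hwd ▸ T₁.mul_mem (T₁.inv_mem haT) ha', hwe ▸ T₂.mul_mem hbT (T₂.inv_mem hb')⟩
    have hv : av α⁻¹ w ∈ T₁ ⊓ T₂ :=
      have hm' := map_of_mem_autGroup hC.1 (Subgroup.inv_mem _ hα)
      ⟨stronglyClosed_map c.t₁ hm' (hW hw) hw.1, stronglyClosed_map c.t₂ hm' (hW hw) hw.2⟩
    obtain ⟨v, hvd⟩ : ∃ v, v = av α⁻¹ w := ⟨_, rfl⟩
    rw [← hvd] at hv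
    have hvw : av α v = w := by rw [hvd, av_av_inv α (hW hw)]
    have hv2 : v⁻¹ ∈ T₂ ⊓ T₁ := Subgroup.inv_mem _ ⟨hv.2, hv.1⟩
    refine ⟨a * v, Subgroup.mul_mem _ (mem_pj ha hb hx) (le_pj hv), v⁻¹ * b,
      Subgroup.mul_mem _ (le_pj hv2) (c.mem_pj' ha hb hx), ?_, ?_, by rwa [mul_assoc, mul_inv_cancel_left]⟩
    · rw [hm.map_mul haR.1 (hW hv), hvw, hwd, mul_inv_cancel_left]
    · rw [hm.map_mul (R.inv_mem (hW hv)) hbR.1, hm.map_inv (hW hv), hvw, hwe]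
      group
  have hU := stronglyClosed_sup c.pS c.sat c.t₁ c.t₂
  have hPim : im P (av α) ≤ c.U :=
    im_le_iff.2 fun x hx => stronglyClosed_map hU hm (hP hx) (hPU hx)
  refine ⟨fun y => av α (f (av α⁻¹ y)), ⟨hPim, k₁, k₂, hk₁.restrict fun a' ha' => ?_,
    hk₂.restrict fun b' hb' => ?_, fun a' ha' b' hb' hab' => ?_⟩, fun x hx => ?_⟩
  · obtain ⟨b', hb', hab'⟩ := c.exists_pj hPim ha'
    obtain ⟨a, ha, -, -, he, -, -⟩ := key a' ha'.2 b' hb' hab'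
    exact he ▸ mem_im_of_mem ha
  · obtain ⟨a', ha', hba'⟩ := c.symm.exists_pj (hPim.trans (sup_comm T₁ T₂).le) hb'
    rw [c.symm.comm b' hb'.2 a' ha'] at hba'
    obtain ⟨-, -, b, hb, -, he, -⟩ := key a' ha' b' hb'.2 hba'
    exact he ▸ mem_im_of_mem hb
  · obtain ⟨a, ha, b, hb, rfl, rfl, hab⟩ := key a' ha' b' hb' hab'
    show av α (f (av α⁻¹ (av α a * av α b))) = _
    rw [← hm.map_mul (hi₁ ha).1 (hi₂ hb).1, av_inv_av α (R.mul_mem (hi₁ ha).1 (hi₂ hb).1),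
      hf a ha.2 b hb.2 hab, hm.map_mul (hg₁R a ha).1 (hg₂R b hb).1, hk₁e a ha, hk₂e b hb]
  · show av α (f (av α⁻¹ (av α x))) = av α (f x)
    rw [av_inv_av α (hP hx)]

/-- The product is invariant. -/
theorem PCtx.sys_strongInv : StrongInv c.sys F := by
  let Good : Subgroup Ω → (Ω → Ω) → Prop := fun Q g => ∀ (P : Subgroup Ω) (f : Ω → Ω), P ≤ Q →
    c.DMap P f → (∀ x ∈ P, f x ∈ Q) → ∃ h, c.DMap (im P g) h ∧ ∀ x ∈ P, h (g x) = g (f x)
  let K : Subgroup Ω → (Ω → Ω) → Prop := fun Q g =>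
    Good Q g ∧ ∀ k : Ω → Ω, (∀ x ∈ Q, k (g x) = x) → Good (im Q g) k
  have hcongr : ∀ {Q : Subgroup Ω} {g g' : Ω → Ω}, Good Q g → (∀ x ∈ Q, g x = g' x) → Good Q g' := by
    intro Q g g' hg he P f hP hf hfQ
    obtain ⟨h, hh, hhe⟩ := hg P f hP hf hfQ
    refine ⟨h, by rw [← im_congr fun x hx => he x (hP hx)]; exact hh, fun x hx => ?_⟩
    rw [← he x (hP hx), ← he _ (hfQ x hx), hhe x hx]
  have hres : ∀ {Q Q' : Subgroup Ω} {g : Ω → Ω}, Good Q g → Q' ≤ Q → Good Q' g :=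
    fun hg hQ P f hP hf hfQ => hg P f (hP.trans hQ) hf fun x hx => hQ (hfQ x hx)
  have hcomp : ∀ {Q R : Subgroup Ω} {g g' : Ω → Ω}, Map F Q g → Good Q g → Good R g' →
      (∀ x ∈ Q, g x ∈ R) → Good Q (g' ∘ g) := by
    intro Q R g g' hgm hg hg' hm P f hP hf hfQ
    obtain ⟨h, hh, hhe⟩ := hg P f hP hf hfQ
    obtain ⟨h', hh', hhe'⟩ := hg' (im P g) h (im_le_iff.2 fun x hx => hm x (hP hx)) hh fun y hy => by
      obtain ⟨x, hx, rfl⟩ := (hgm.restrict hP).mem_im.1 hy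
      rw [hhe x hx]; exact hm _ (hfQ x hx)
    refine ⟨h', by rw [(hgm.restrict hP).im_comp]; exact hh', fun x hx => ?_⟩
    show h' (g' (g x)) = g' (g (f x))
    rw [hhe' _ (mem_im_of_mem hx), hhe x hx]
  have hK : IsClosedClass F K := by
    refine ⟨?_, ?_, ?_, ?_⟩
    · rintro Q g g' ⟨h1, h2⟩ he
      exact ⟨hcongr h1 he, fun k hk => by rw [← im_congr he]; exact h2 k fun x hx => by rw [he x hx]; exact hk x hx⟩
    · rintro Q R g hg ⟨h1, h2⟩ hR
      refine ⟨hres h1 hR, fun k hk => ?_⟩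
      obtain ⟨l, -, hlg, -, -⟩ := hg.exists_inv
      refine hcongr (hres (h2 l hlg) (im_mono hR)) fun y hy => ?_
      obtain ⟨x, hx, rfl⟩ := (hg.restrict hR).mem_im.1 hy
      rw [hlg x (hR hx), hk x hx]
    · rintro Q R g g' hg hg' ⟨h1, h2⟩ ⟨h1', h2'⟩ hm
      refine ⟨hcomp hg h1 h1' hm, fun k hk => ?_⟩
      obtain ⟨l', hl', hlg', -, -⟩ := hg'.exists_inv
      obtain ⟨l, -, hlg, -, -⟩ := hg.exists_inv
      have hle : im Q (g' ∘ g) ≤ im R g' := by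
        rw [hg.im_comp]; exact im_mono (im_le_iff.2 hm)
      refine hcongr (hcomp (hl'.restrict hle) (hres (h2' l' hlg') hle) (h2 l hlg) fun y hy => ?_) fun y hy => ?_
      · obtain ⟨x, hx, rfl⟩ := (hg.comp hg' hm).mem_im.1 hy
        show l' (g' (g x)) ∈ _
        rw [hlg' _ (hm x hx)]; exact mem_im_of_mem hx
      · obtain ⟨x, hx, rfl⟩ := (hg.comp hg' hm).mem_im.1 hy
        show l (l' (g' (g x))) = _
        rw [hlg' _ (hm x hx), hlg x hx, hk x hx]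
    · rintro Q g k hg ⟨h1, h2⟩ hk
      refine ⟨h2 k hk, fun k' hk' => ?_⟩
      have e : im (im Q g) k = Q := by
        refine le_antisymm (im_le_iff.2 fun y hy => ?_) fun x hx => ?_
        · obtain ⟨x, hx, rfl⟩ := hg.mem_im.1 hy
          rw [hk x hx]; exact hx
        · rw [← hk x hx]; exact mem_im_of_mem (mem_im_of_mem hx)
      rw [e]
      exact hcongr h1 fun x hx => by
        have := hk' (g x) (mem_im_of_mem hx)
        rw [hk x hx] at this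
        exact this.symm
  intro A B f g hAB hBU hf hfB hg
  obtain ⟨h1, -⟩ : K B g := by
    refine alperin c.pS c.sat hK (fun R hR α hα => ?_) B g hg
    obtain ⟨hC, hR'⟩ := gen_centric_radical c.pS c.sat hR
    refine ⟨fun P f hP hf hfR => c.good_gen hC hR' hα hP hf hfR, fun k hk => ?_⟩
    rw [im_av α]
    refine hcongr (fun P f hP hf hfR => c.good_gen hC hR' (Subgroup.inv_mem _ hα) hP hf hfR) fun y hy => ?_
    have := hk (av α⁻¹ y) (av_mem _ hy)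
    rw [av_av_inv α hy] at this
    exact this.symm
  obtain ⟨h, hh, hhe⟩ := h1 A f hAB (c.map_sys.1 hf) hfB
  exact ⟨h, c.map_sys.2 hh, hhe⟩

theorem PCtx.sys_invariant : c.sys.IsInvariantIn F :=
  (isInvariantIn_iff c.pS c.sat c.sys_sub (stronglyClosed_sup c.pS c.sat c.t₁ c.t₂)).2 c.sys_strongInv

end Cfsg.Agent.Local.FS.Commute
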