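import Cfsg.Agent.Lib.Local.FS.Meet.Key
import Cfsg.Agent.Lib.Local.FS.PrimeResidualNormal
import Cfsg.Agent.Lib.Local.FS.PrimeIndex
import Cfsg.Agent.Lib.Local.FS.ProductFactors
import Cfsg.Agent.Lib.Local.FS.CharSubsystem
import Cfsg.Agent.Lib.Local.FS.CentralizerOfNormal

/-!
Maps of a normal subsystem whose base meets a strongly closed subgroup `R` in central elements extend to `R`,
moving it inside the intersection.
-/

set_option autoImplicit false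

namespace Cfsg.Agent.Local.FS.Commute

open Cfsg Cfsg.FusionSystem Cfsg.Agent.Fusion Cfsg.Agent.Local.FS Cfsg.Agent.Local.FS.Meet

universe u v

variable {Ω : Type u} [Group Ω] {S V R P Q : Subgroup Ω} {F : FusionSystem S} {N : FusionSystem V}
  {f g : Ω → Ω} {p : ℕ}

/-- A normal subsystem over `V` all maps of which extend by the identity on `V ⊓ R`. -/
structure Ctx (F : FusionSystem S) (N : FusionSystem V) (R : Subgroup Ω) (p : ℕ) : Prop where
  pS : IsPGroup p S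
  sat : F.IsSaturated p
  n : N.IsNormalIn F p
  tR : F.StronglyClosed R
  fix : ∀ (P : Subgroup Ω) (f : Ω → Ω), Map N P f →
    ∃ g, Map F (P ⊔ V ⊓ R) g ∧ (∀ x ∈ P, g x = f x) ∧ ∀ w ∈ V ⊓ R, g w = w

variable (c : Ctx F N R p)
include c

theorem Ctx.ni : N.IsInvariantIn F := c.n.1.2.2

theorem Ctx.tV : F.StronglyClosed V := c.ni.2.1

theorem Ctx.fixed (hf : Map N P f) {w : Ω} (hwP : w ∈ P) (hw : w ∈ V ⊓ R) : f w = w := by
  obtain ⟨g, -, hgf, hgW⟩ := c.fix P f hf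
  rw [← hgf w hwP, hgW w hw]

theorem Ctx.central {v w : Ω} (hv : v ∈ V) (hw : w ∈ V ⊓ R) : v * w * v⁻¹ = w :=
  c.fixed (map_conjBy (F := N) le_rfl hv) hw.1 hw

theorem Ctx.shift {v r : Ω} (hv : v ∈ V) (hr : r ∈ R) : r⁻¹ * (v * r * v⁻¹) ∈ V ⊓ R := by
  refine ⟨?_, R.mul_mem (R.inv_mem hr) (stronglyClosed_conj_mem c.tR (c.tV.1 hv) hr)⟩
  have h1 := V.mul_mem (stronglyClosed_conj_mem c.tV (S.inv_mem (c.tR.1 hr)) hv) (V.inv_mem hv)
  simpa [mul_assoc] using h1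

omit c in
/-- The extensions: the identity on `V ⊓ R`, trivial on `R` modulo `V ⊓ R`. -/
def Ext (F : FusionSystem S) (V R P : Subgroup Ω) (f : Ω → Ω) : Prop :=
  ∃ g, Map F (P ⊔ R) g ∧ (∀ x ∈ P, g x = f x) ∧ (∀ w ∈ V ⊓ R, g w = w) ∧ ∀ r ∈ R, r⁻¹ * g r ∈ V ⊓ R

theorem Ctx.ext_conjBy (hP : P ≤ V) {v : Ω} (hv : v ∈ V) : Ext F V R P fun x => v * x * v⁻¹ :=
  ⟨fun x => v * x * v⁻¹, map_conjBy (sup_le (hP.trans c.tV.1) c.tR.1) (c.tV.1 hv), fun _ _ => rfl,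
    fun _ hw => c.central hv hw, fun _ hr => c.shift hv hr⟩

omit c in
theorem Ext.comp {f' : Ω → Ω} (hf : Ext F V R P f) (hg : Ext F V R Q f') (hm : ∀ x ∈ P, f x ∈ Q) :
    Ext F V R P (f' ∘ f) := by
  obtain ⟨g, hg₁, hgf, hgW, hgR⟩ := hf
  obtain ⟨k, hk₁, hkf, hkW, hkR⟩ := hg
  have hgr : ∀ r ∈ R, g r ∈ R := fun r hr => by
    simpa using R.mul_mem hr (hgR r hr).2
  refine ⟨k ∘ g, hg₁.comp hk₁ fun x hx => ?_, fun x hx => ?_, fun w hw => ?_, fun r hr => ?_⟩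
  · exact (show im P g ⊔ im R g ≤ Q ⊔ R from sup_le_sup
      (im_le_iff.2 fun y hy => by rw [hgf y hy]; exact hm y hy) (im_le_iff.2 hgr))
      (hg₁.im_sup_le (mem_im_of_mem hx))
  · show k (g x) = f' (f x)
    rw [hgf x hx, hkf _ (hm x hx)]
  · show k (g w) = w
    rw [hgW w hw, hkW w hw]
  · show r⁻¹ * k (g r) ∈ _
    have h2 : k (g r) = k r * (r⁻¹ * g r) := by
      conv_lhs => rw [← mul_inv_cancel_left r (g r)]
      rw [hk₁.map_mul (Subgroup.mem_sup_right hr) (Subgroup.mem_sup_right (hgR r hr).2), hkW _ (hgR r hr)]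
    rw [h2, ← mul_assoc]
    exact Subgroup.mul_mem _ (hkR r hr) (hgR r hr)

omit c in
theorem Ext.inv (hf : Ext F V R P f) {k : Ω → Ω} (hk : ∀ x ∈ P, k (f x) = x) :
    Ext F V R (im P f) k := by
  obtain ⟨g, hg, hgf, hgW, hgR⟩ := hf
  obtain ⟨l, hl, hlg, -, -⟩ := hg.exists_inv
  have hRr : ∀ r ∈ R, g (r * (r⁻¹ * g r)⁻¹) = r := fun r hr => by
    rw [hg.map_mul (Subgroup.mem_sup_right hr) (Subgroup.mem_sup_right (R.inv_mem (hgR r hr).2)),
      hgW _ (Subgroup.inv_mem _ (hgR r hr))]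
    group
  have hmem : ∀ r ∈ R, r * (r⁻¹ * g r)⁻¹ ∈ P ⊔ R := fun r hr =>
    Subgroup.mem_sup_right (R.mul_mem hr (R.inv_mem (hgR r hr).2))
  refine ⟨l, hl.restrict (sup_le ((im_congr hgf).ge.trans (im_mono le_sup_left)) fun r hr => ?_),
    fun y hy => ?_, fun w hw => ?_, fun r hr => ?_⟩
  · conv => arg 2; rw [← hRr r hr]
    exact mem_im_of_mem (hmem r hr)
  · obtain ⟨x, hx, rfl⟩ := (hg.restrict le_sup_left).mem_im.1 ((im_congr hgf).ge hy)
    rw [hlg x (Subgroup.mem_sup_left hx), hgf x hx, hk x hx]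
  · conv_lhs => rw [← hgW w hw]
    exact hlg w (Subgroup.mem_sup_right hw.2)
  · have h1 := hlg _ (hmem r hr)
    rw [hRr r hr] at h1
    rw [h1, inv_mul_cancel_left]
    exact Subgroup.inv_mem _ (hgR r hr)

/-- The maps of `N` with an extension. -/
def Ctx.fixSys : FusionSystem V where
  Hom P := {φ | φ ∈ N.Hom P ∧ Ext F V R P (fn φ)}
  le_of_mem h := N.le_of_mem h.1
  injective_of_mem h := N.injective_of_mem h.1
  conj_mem {P t} hP ht := ⟨N.conj_mem hP ht, by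
    obtain ⟨g, hg, hgf, hgW, hgR⟩ := c.ext_conjBy hP ht
    exact ⟨g, hg, fun x hx => (hgf x hx).trans (fn_apply (conjHom P t) hx).symm, hgW, hgR⟩⟩
  comp_mem {P Q φ ψ} hφ hψ hm := ⟨N.comp_mem hφ.1 hψ.1 hm, by
    obtain ⟨g, hg, hgf, hgW, hgR⟩ := hφ.2.comp hψ.2 fun x hx => by rw [fn_apply φ hx]; exact hm _
    refine ⟨g, hg, fun x hx => (hgf x hx).trans ?_, hgW, hgR⟩
    show fn ψ (fn φ x) = _
    rw [fn_apply φ hx, fn_apply ψ (hm _), fn_apply _ hx]; rfl⟩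
  inv_mem {P φ} hφ := by
    obtain ⟨ψ, hψ, hψφ⟩ := N.inv_mem hφ.1
    refine ⟨ψ, ⟨hψ, ?_⟩, hψφ⟩
    have h1 := hφ.2.inv (k := fn ψ) fun x hx => by
      rw [fn_apply φ hx, fn_apply ψ ⟨⟨x, hx⟩, rfl⟩, hψφ ⟨x, hx⟩]
    rwa [(map_of_mem hφ.1).im_eq_range fun x => (fn_coe φ x).symm] at h1

theorem Ctx.map_fixSys : Map c.fixSys P f ↔ Map N P f ∧ Ext F V R P f := by
  constructor
  · rintro ⟨φ, ⟨hφ, g, hg, hgf, hgW, hgR⟩, he⟩
    exact ⟨⟨φ, hφ, he⟩, g, hg, fun x hx => by rw [hgf x hx, fn_apply φ hx]; exact he ⟨x, hx⟩, hgW, hgR⟩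
  · rintro ⟨⟨φ, hφ, he⟩, g, hg, hgf, hgW, hgR⟩
    exact ⟨φ, ⟨hφ, g, hg, fun x hx => by rw [hgf x hx, fn_apply φ hx]; exact (he ⟨x, hx⟩).symm, hgW, hgR⟩, he⟩

variable [Finite S] [Fact p.Prime]

/-- The part of `N` in the model at a fully normalized centric subgroup. -/
theorem Ctx.act_ext {G : Type v} [Group G] {ι : ↥(normalizerIn S Q) →* G} (L : LModel F p Q ι)
    (hQ : F.IsFullyNormalized Q) (hQc : N.IsCentric Q) {A : Subgroup G} (hA : A.Normal)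
    (hAp : ∀ g ∈ A, Part N S Q (act ι g)) (hAr : ι.range ⊓ A = imG ι (normalizerIn V Q)) {h : G}
    (hh : h ∈ A) : Ext F V R Q (act ι h) := by
  haveI := L.finite
  haveI := hA
  haveI := finite_of_le c.tV.1
  have hQS := hQ.1
  have hQN : Q ≤ normalizerIn S Q := le_normalizerIn hQS
  have hVN : normalizerIn V Q ≤ normalizerIn S Q := inf_le_inf_right _ c.tV.1
  have hHN : hat S Q ≤ normalizerIn S Q := hat_le S hQS
  have hNp : IsPGroup p ↥ι.range := L.syl.isPGroup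
  have hWQ : V ⊓ R ≤ Q := fun w hw => centric_inv_mem hQc hw.1 fun y hy =>
    mul_inv_eq_iff_eq_mul.1 (c.central (hQc.1 hy) hw)
  have hWN : V ⊓ R ≤ normalizerIn S Q := hWQ.trans hQN
  have hRQ : ∀ r ∈ R, ∀ x ∈ Q, r * x * r⁻¹ * x⁻¹ ∈ V ⊓ R := fun r hr x hx => by
    refine ⟨V.mul_mem (stronglyClosed_conj_mem c.tV (c.tR.1 hr) (hQc.1 hx)) (V.inv_mem (hQc.1 hx)), ?_⟩
    have h1 := R.mul_mem hr (stronglyClosed_conj_mem c.tR (hQS hx) (R.inv_mem hr))
    simpa [mul_assoc] using h1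
  have hRN : R ≤ normalizerIn S Q := fun r hr => ⟨c.tR.1 hr, mem_normalizer_of_conj_mem hQS fun x hx => by
    have h1 := Q.mul_mem (hWQ (hRQ r hr x hx)) hx
    simpa [mul_assoc] using h1⟩
  have hAfix : ∀ g ∈ A, ∀ w ∈ V ⊓ R, act ι g w = w := fun g hg w hw =>
    c.fixed (hAp g hg).1 (Subgroup.mem_sup_left (hWQ hw)) hw
  have hAfixG : ∀ g ∈ A, ∀ w ∈ V ⊓ R, g * ue ι w * g⁻¹ = ue ι w := fun g hg w hw => by
    rw [← ue_act (L.hat_range hQS g (Subgroup.mem_sup_left (hWQ hw))), hAfix g hg w hw]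
  obtain ⟨Wi, hWi⟩ : ∃ Wi, Wi = imG ι (V ⊓ R) := ⟨_, rfl⟩
  have hWin : Wi.Normal := ⟨fun z hz g => by
    rw [hWi] at hz ⊢
    obtain ⟨w, hw, rfl⟩ := (mem_imG hWN).1 hz
    have hwh : w ∈ hat S Q := Subgroup.mem_sup_left (hWQ hw)
    rw [← ue_act (L.hat_range hQS g hwh)]
    exact ue_mem_up hWN ⟨stronglyClosed_map c.tV (L.act_hat hQS g) hwh hw.1,
      stronglyClosed_map c.tR (L.act_hat hQS g) hwh hw.2⟩⟩
  obtain ⟨Qi, hQi⟩ : ∃ Qi, Qi = imG ι Q := ⟨_, rfl⟩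
  have hQin : Qi.Normal := hQi ▸ L.nQ
  let G₀ : Subgroup G :=
    { carrier := {g | ∀ z ∈ Qi, g * z * g⁻¹ * z⁻¹ ∈ Wi}
      one_mem' := fun z _ => by rw [one_mul, inv_one, mul_one, mul_inv_cancel]; exact Wi.one_mem
      mul_mem' := fun {a b} ha hb z hz => by
        have h1 := Wi.mul_mem (hWin.conj_mem _ (hb z hz) a) (ha z hz)
        simpa [mul_assoc] using h1
      inv_mem' := fun {a} ha z hz => by
        have h1 := Wi.inv_mem (ha _ (hQin.conj_mem z hz a⁻¹))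
        simpa [mul_assoc] using h1 }
  have hG₀ : G₀.Normal := ⟨fun g hg k z hz => by
    have h1 := hWin.conj_mem _ (hg _ (hQin.conj_mem z hz k⁻¹)) k
    simpa [mul_assoc] using h1⟩
  have hB : (A ⊓ G₀).Normal := Subgroup.normal_inf_normal _ _
  have hcop : ∀ b ∈ A ⊓ G₀, (orderOf b).Coprime p → b = 1 := by
    rintro b ⟨hbA, hb⟩ hbo
    -- a shift by an element fixed by `b` is trivial
    have hfix : ∀ x, ∀ y ∈ normalizerIn S Q, b * x * b⁻¹ = x * ue ι y → b * ue ι y * b⁻¹ = ue ι y →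
        b * x * b⁻¹ = x := fun x y hy h1 h2 => by
      have h3 := NormalInModel.conj_pow_eq h1 h2 (orderOf b)
      rw [pow_orderOf_eq_one, one_mul, inv_one, mul_one, eq_comm, mul_eq_left] at h3
      obtain ⟨k, hk⟩ := hNp ⟨ue ι y, ue_mem_range hy⟩
      have h4 : ue ι y = 1 := orderOf_eq_one_iff.1 (Nat.eq_one_of_dvd_coprimes (hbo.pow_right k)
        (orderOf_dvd_of_pow_eq_one h3) (orderOf_dvd_of_pow_eq_one (congrArg Subtype.val hk)))
      rw [h1, h4, mul_one]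
    have hbQ : ∀ x ∈ Q, b * ue ι x * b⁻¹ = ue ι x := fun x hx => by
      obtain ⟨w, hw, hwe⟩ := (mem_imG hWN).1 (hWi ▸ hb _ (show ue ι x ∈ Qi by rw [hQi]; exact ue_mem_up hQN hx))
      refine hfix _ w (hWN hw) ?_ (hAfixG b hbA w hw)
      have h1 : b * ue ι x * b⁻¹ = ue ι w * ue ι x := by rw [hwe]; group
      have h2 : w * x = x * w := (mul_inv_eq_iff_eq_mul.1 (c.central (hQc.1 hx) hw)).symm
      rw [h1, ← ue_mul (hWN hw) (hQN hx), ← ue_mul (hQN hx) (hWN hw), h2]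
    have hbC : ∀ y ∈ centralizerIn S Q, b * ue ι y * b⁻¹ = ue ι y := fun y hy => by
      have hyh : y ∈ hat S Q := Subgroup.mem_sup_right hy
      have hd : y⁻¹ * act ι b y ∈ Q := centric_inv_mem hQc ((hAp b hbA).2 y hy)
        (mem_centralizerIn.1 ((centralizerIn S Q).mul_mem ((centralizerIn S Q).inv_mem hy)
          (L.act_cent hQS b hy))).2
      refine hfix _ _ (hQN hd) ?_ (hbQ _ hd)
      rw [← ue_mul (hHN hyh) (hQN hd), mul_inv_cancel_left, ue_act (L.hat_range hQS b hyh)]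
    have hbH : b ∈ imG ι (hat S Q) := by
      refine L.centH b fun x hx => ?_
      have hle : imG ι (hat S Q) ≤ Subgroup.centralizer {b} := by
        rintro _ ⟨y, hy, rfl⟩
        have : hat S Q ≤ ((Subgroup.centralizer {b}).comap ι).map (normalizerIn S Q).subtype := by
          refine sup_le (fun y hy => ⟨⟨y, hQN hy⟩, ?_, rfl⟩)
            fun y hy => ⟨⟨y, hHN (Subgroup.mem_sup_right hy)⟩, ?_, rfl⟩
          · rw [SetLike.mem_coe, Subgroup.mem_comap, ← ue_apply (hQN hy), Subgroup.mem_centralizer_singleton_iff,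
              ← mul_inv_eq_iff_eq_mul.1 (hbQ y hy)]
          · rw [SetLike.mem_coe, Subgroup.mem_comap, ← ue_apply (hHN (Subgroup.mem_sup_right hy)),
              Subgroup.mem_centralizer_singleton_iff, ← mul_inv_eq_iff_eq_mul.1 (hbC y hy)]
        obtain ⟨y', hy', he⟩ := this hy
        obtain rfl : y' = y := Subtype.ext he
        exact hy'
      have h1 := Subgroup.mem_centralizer_singleton_iff.1 (hle (ue_mem_up hHN hx))
      exact mul_inv_eq_iff_eq_mul.2 h1.symm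
    obtain ⟨k, hk⟩ := hNp ⟨b, Subgroup.map_le_range ι _ hbH⟩
    exact orderOf_eq_one_iff.1 (Nat.eq_one_of_dvd_coprimes (hbo.pow_right k) dvd_rfl
      (orderOf_dvd_of_pow_eq_one (congrArg Subtype.val hk)))
  have hBp : IsPGroup p ↥(A ⊓ G₀) := by
    intro b
    obtain ⟨k, m, hm', hkm⟩ := Nat.exists_eq_pow_mul_and_not_dvd (orderOf_pos (b : G)).ne' p
      (Fact.out : p.Prime).ne_one
    refine ⟨k, Subtype.ext (hcop _ ((A ⊓ G₀).pow_mem b.2 _) ?_)⟩
    rw [SubgroupClass.coe_pow, orderOf_pow, hkm, Nat.gcd_mul_right_left,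
      Nat.mul_div_cancel_left _ (pow_pos (Fact.out : p.Prime).pos k)]
    exact ((Nat.Prime.coprime_iff_not_dvd Fact.out).2 hm').symm
  have hBle : A ⊓ G₀ ≤ imG ι (normalizerIn V Q) := by
    obtain ⟨x, -, hx⟩ := L.syl.conj_le hBp le_top
    rw [cj_of_normal] at hx
    exact fun z hz => hAr.le ⟨hx hz, hz.1⟩
  have hRG₀ : ∀ r ∈ R, ue ι r ∈ G₀ := fun r hr z hz => by
    rw [hQi] at hz
    obtain ⟨x, hx, rfl⟩ := (mem_imG hQN).1 hz
    rw [hWi, ← ue_conj (hRN hr) (hQN hx), ← ue_inv (hQN hx),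
      ← ue_mul (Subgroup.mul_mem _ (Subgroup.mul_mem _ (hRN hr) (hQN hx)) (Subgroup.inv_mem _ (hRN hr)))
        (Subgroup.inv_mem _ (hQN hx))]
    exact ue_mem_up hWN (hRQ r hr x hx)
  have hkey : ∀ r ∈ R, ∃ v ∈ normalizerIn V Q,
      h * ue ι r * h⁻¹ = ue ι (v * r) := fun r hr => by
    obtain ⟨v, hv, hve⟩ := (mem_imG hVN).1 (hBle (show h * ue ι r * h⁻¹ * (ue ι r)⁻¹ ∈ A ⊓ G₀ from
      ⟨(show h * (ue ι r * h⁻¹ * (ue ι r)⁻¹) = h * ue ι r * h⁻¹ * (ue ι r)⁻¹ by group) ▸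
          A.mul_mem hh (hA.conj_mem _ (A.inv_mem hh) _),
        G₀.mul_mem (hG₀.conj_mem _ (hRG₀ r hr) h) (G₀.inv_mem (hRG₀ r hr))⟩))
    exact ⟨v, hv, by rw [ue_mul (hVN hv) (hRN hr), hve]; group⟩
  have hm : Map F (R ⊔ hat S Q) (act ι h) := L.mapG R hRN h fun r hr => by
    obtain ⟨v, hv, he⟩ := hkey r hr
    rw [he]
    exact ue_mem_range (Subgroup.mul_mem _ (hVN hv) (hRN hr))
  refine ⟨act ι h, hm.restrict (sup_le (le_sup_left.trans le_sup_right) le_sup_left), fun _ _ => rfl,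
    hAfix h hh, fun r hr => ?_⟩
  obtain ⟨v, hv, he⟩ := hkey r hr
  have hact : act ι h r = v * r := act_eq L.inj (Subgroup.mul_mem _ (hVN hv) (hRN hr)) he.symm
  have h1 := stronglyClosed_map c.tR hm (Subgroup.mem_sup_left hr) hr
  rw [hact] at h1 ⊢
  refine ⟨?_, R.mul_mem (R.inv_mem hr) h1⟩
  simpa [mul_assoc] using stronglyClosed_conj_mem c.tV (S.inv_mem (c.tR.1 hr)) hv.1

/-- Automorphisms of `p`-power order on fully normalized centric subgroups. -/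
theorem Ctx.fix_pElement (hQ : F.IsFullyNormalized Q) (hQc : N.IsCentric Q) {a : MulAut Q}
    (ha : a ∈ N.autGroup Q) {k : ℕ} (hk : orderOf a = p ^ k) : Ext F V R Q (av a) := by
  obtain ⟨G, hG, ι, L⟩ := exists_lModel c.pS c.sat hQ
  haveI := L.finite
  haveI := finite_of_le c.tV.1
  obtain ⟨A, hA, hAp, -, hAr, -⟩ := L.exists_part c.pS c.sat c.n hQc.1 hQ
  obtain ⟨π, hπ, -, hπs⟩ := L.exists_toAut c.pS c.sat hQ
  haveI := mulAut_finite_of_le hQ.1
  have hsyl := (fa_iff.1 (fc_fa_of_fn (c.pS.to_le c.tV.1) c.n.1.1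
    (fn_of_fn c.pS c.n.1 hQ hQc.1)).2).2
  obtain ⟨x, hx, hle⟩ := hsyl.conj_le (IsPGroup.of_card (n := k) ((Nat.card_zpowers a).trans hk))
    (Subgroup.zpowers_le.2 ha)
  obtain ⟨t, ht, htx⟩ := mem_autInducedBy.1 (hle (conj_mem_cj (g := x) (Subgroup.mem_zpowers a)))
  have htn := mem_normalizer_of_conj_aut htx
  have hVN : normalizerIn V Q ≤ normalizerIn S Q := inf_le_inf_right _ c.tV.1
  obtain ⟨y, hy⟩ := hπs x (autGroup_sub_le c.ni hQc.1 hx)
  have ht' : π (ue ι t) = x * a * x⁻¹ := aut_ext fun z hz => by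
    rw [hπ _ z hz, act_conj L.inj (hVN ⟨ht, htn⟩) (le_normalizerIn hQ.1 hz), htx z hz]
  have hm : y⁻¹ * ue ι t * y ∈ A := by
    simpa using hA.conj_mem _ ((hAr.ge.trans inf_le_right) (ue_mem_up hVN ⟨ht, htn⟩)) y⁻¹
  have he : π (y⁻¹ * ue ι t * y) = a := by
    rw [map_mul, map_mul, map_inv, hy, ht']; group
  obtain ⟨g, hg, hgf, hgW, hgR⟩ := c.act_ext L hQ hQc hA hAp hAr hm
  exact ⟨g, hg, fun z hz => by rw [hgf z hz, ← hπ _ z hz, he], hgW, hgR⟩

/-- Automorphisms of `p`-power order on centric subgroups. -/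
theorem Ctx.fix_pResAut (hP : N.IsCentric P) : pResAut p (N.autGroup P) ≤ c.fixSys.autGroup P := by
  haveI := finite_of_le c.tV.1
  refine pResAut_induction fun a ha hk => mem_autGroup_of_map (c.map_fixSys.2
    ⟨map_of_mem_autGroup hP.1 ha, ?_⟩)
  obtain ⟨k, hk⟩ := hk
  obtain ⟨Q, hPQ, hQn⟩ := exists_fullyNormalized (F := F) (hP.1.trans c.tV.1)
  obtain ⟨u, hu, hum, hi⟩ := exists_map_normalizer_fn c.pS c.sat hQn hPQ
  have hWP : V ⊓ R ≤ P := fun w hw => centric_inv_mem hP hw.1 fun y hy =>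
    mul_inv_eq_iff_eq_mul.1 (c.central (hP.1 hy) hw)
  have hPS := hP.1.trans c.tV.1
  have hRN : R ≤ normalizerIn S P := fun r hr => ⟨c.tR.1 hr, mem_normalizer_of_conj_mem hPS fun x hx => by
    have h0 : r * x * r⁻¹ * x⁻¹ ∈ V ⊓ R :=
      ⟨V.mul_mem (stronglyClosed_conj_mem c.tV (c.tR.1 hr) (hP.1 hx)) (V.inv_mem (hP.1 hx)), by
        have h1 := R.mul_mem hr (stronglyClosed_conj_mem c.tR (hPS hx) (R.inv_mem hr))
        simpa [mul_assoc] using h1⟩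
    have h1 := P.mul_mem (hWP h0) hx
    simpa [mul_assoc] using h1⟩
  have hle : P ⊔ R ≤ normalizerIn S P := sup_le (le_normalizerIn hPS) hRN
  have huPR := hu.restrict hle
  have huP := huPR.restrict le_sup_left
  obtain ⟨e, he⟩ := exists_equiv huP hi
  have hQV : Q ≤ V := hi ▸ im_le_iff.2 fun x hx => stronglyClosed_map c.tV huP hx (hP.1 hx)
  have hQc : N.IsCentric Q := hi ▸ centric_of_sub_map c.ni hP huP
  obtain ⟨g, hg, hgf, hgW, hgR⟩ := c.fix_pElement hQn hQc (congr_mem_sub c.ni huP hP.1 hi he ha)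
    (k := k) ((orderOf_injective (MulAut.congr e).toMonoidHom (MulAut.congr e).injective a).trans hk)
  have huW : ∀ w ∈ V ⊓ R, u w ∈ V ⊓ R := fun w hw =>
    ⟨stronglyClosed_map c.tV huP (hWP hw) hw.1, stronglyClosed_map c.tR huP (hWP hw) hw.2⟩
  have huR : ∀ r ∈ R, u r ∈ R := fun r hr => stronglyClosed_map c.tR huPR (Subgroup.mem_sup_right hr) hr
  haveI := finite_of_le c.tR.1
  have himR : im R u = R := Subgroup.eq_of_le_of_card_ge (im_le_iff.2 huR)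
    (huPR.restrict le_sup_right).card_im.ge
  obtain ⟨l, hl, hlu, hul, -⟩ := huPR.exists_inv
  have hle2 : Q ⊔ R ≤ im (P ⊔ R) u :=
    sup_le (hi.ge.trans (im_mono le_sup_left)) (himR.ge.trans (im_mono le_sup_right))
  have h₁ : Map F (P ⊔ R) (g ∘ u) := huPR.comp hg fun x hx =>
    (show im P u ⊔ im R u ≤ Q ⊔ R from sup_le_sup hi.le himR.le) (huPR.im_sup_le (mem_im_of_mem hx))
  have hgu : ∀ r ∈ R, g (u r) ∈ R := fun r hr => by
    simpa using R.mul_mem (huR r hr) (hgR _ (huR r hr)).2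
  have hmem : ∀ x ∈ P ⊔ R, g (u x) ∈ im (P ⊔ R) u := fun x hx => by
    refine hle2 ((show im P (g ∘ u) ⊔ im R (g ∘ u) ≤ Q ⊔ R from sup_le_sup (im_le_iff.2 fun y hy => ?_)
      (im_le_iff.2 hgu)) (h₁.im_sup_le (mem_im_of_mem hx)))
    show g (u y) ∈ Q
    rw [hgf _ (hi.le (mem_im_of_mem hy))]
    exact av_mem _ (hi.le (mem_im_of_mem hy))
  refine ⟨l ∘ (g ∘ u), h₁.comp hl hmem, fun x hx => ?_, fun w hw => ?_, fun r hr => ?_⟩
  · show l (g (u x)) = av a x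
    rw [hgf _ (hi.le (mem_im_of_mem hx)), av_congr_apply he a hx, hlu _ (Subgroup.mem_sup_left (av_mem a hx))]
  · show l (g (u w)) = w
    rw [hgW _ (huW w hw), hlu _ (Subgroup.mem_sup_left (hWP hw))]
  · obtain ⟨hd₁, hd₂⟩ := hgR _ (huR r hr)
    obtain ⟨d, hd, hde⟩ := (huPR.restrict le_sup_right).mem_im.1 (himR.ge hd₂)
    show r⁻¹ * l (g (u r)) ∈ _
    rw [← mul_inv_cancel_left (u r) (g (u r)), ← hde,
      ← huPR.map_mul (Subgroup.mem_sup_right hr) (Subgroup.mem_sup_right hd),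
      hlu _ (Subgroup.mem_sup_right (R.mul_mem hr hd)), inv_mul_cancel_left]
    refine ⟨?_, hd⟩
    rw [← hlu d (Subgroup.mem_sup_right hd)]
    exact stronglyClosed_map c.tV hl (mem_im_of_mem (Subgroup.mem_sup_right hd)) (hde ▸ hd₁)

/-- The automorphisms of `V`. -/
theorem Ctx.fix_top {α : MulAut V} (hα : α ∈ N.autGroup V) : α ∈ c.fixSys.autGroup V := by
  haveI := finite_of_le c.tV.1
  haveI := mulAut_finite_of_le c.tV.1
  have hVn := stronglyClosed_fn c.tV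
  have hVc : N.IsCentric V := centric_self
  have hp : ∀ b ∈ N.autGroup V, ∀ k : ℕ, orderOf b = p ^ k → b ∈ c.fixSys.autGroup V := fun b hb k hk =>
    mem_autGroup_of_map (c.map_fixSys.2 ⟨map_of_mem_autGroup le_rfl hb, c.fix_pElement hVn hVc hb hk⟩)
  have hco : ∀ b ∈ N.autGroup V, (orderOf b).Coprime p → b ∈ c.fixSys.autGroup V := by
    intro b hb hbo
    obtain ⟨G, hG, ι, L⟩ := exists_lModel c.pS c.sat hVn
    haveI := L.finite
    haveI := finite_of_le (hat_le_of c.tV.1 : hat S V ≤ S)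
    haveI := mulAut_finite_of_le (hat_le_of c.tV.1 : hat S V ≤ S)
    obtain ⟨A, hA, hAp, -, hAr, hAc⟩ := L.exists_part c.pS c.sat c.n le_rfl hVn
    obtain ⟨πH, hπH, -⟩ := L.exists_toAutH hVn.1
    obtain ⟨β, hβ, hβo, hβV, hβs⟩ := exists_pPrime_ext c.n hb hbo
    have hHN : hat S V ≤ normalizerIn S V := hat_le S hVn.1
    have hβm := map_of_mem_autGroup (hat_le_of c.tV.1) hβ
    have hβi : im V (av β) = V := (im_congr hβV).trans (im_av b)
    obtain ⟨γ, hγ⟩ := L.ofMap V (av β) (le_normalizerIn hVn.1)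
      (hβm.restrict (sup_le le_sup_left le_rfl)) hβi (im_av β)
    have hπγ : πH γ = β := aut_ext fun y hy => by
      obtain ⟨h1, h2⟩ := hγ y (Subgroup.mem_sup_right hy)
      rw [hπH γ y hy, act_eq L.inj h1 h2]
    obtain ⟨m, hm, hmπ⟩ := CLift.exists_pow_coprime πH γ (p := p) (by rw [hπγ]; exact hβo)
    have hval : ∀ y ∈ hat S V, act ι (γ ^ m) y = av β y := fun y hy => by
      rw [← hπH _ y hy, hmπ, hπγ]
    have hpart : Part N S V (act ι (γ ^ m)) := by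
      refine ⟨((map_of_mem_autGroup le_rfl hb).restrict (hat_le_of le_rfl)).congr fun x hx => ?_,
        fun x hx => ?_⟩
      · rw [hval x (hat_sub c.tV.1 hx), hβV x (hat_le_of le_rfl hx)]
      · rw [hval x (Subgroup.mem_sup_right hx)]; exact hβs x hx
    obtain ⟨g, hg, hgf, hgW, hgR⟩ := c.act_ext L hVn hVc hA hAp hAr (hAc _ hm hpart)
    exact mem_autGroup_of_map (c.map_fixSys.2 ⟨map_of_mem_autGroup le_rfl hb, g, hg,
      fun x hx => by rw [hgf x hx, hval x (Subgroup.mem_sup_left hx), hβV x hx], hgW, hgR⟩)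
  obtain ⟨k, r, hr, hord⟩ := Nat.exists_eq_pow_mul_and_not_dvd (orderOf_pos α).ne' p
    (Fact.out : p.Prime).ne_one
  have hro : r.Coprime p := ((Nat.Prime.coprime_iff_not_dvd Fact.out).2 hr).symm
  have h1 : α ^ p ^ k ∈ c.fixSys.autGroup V := hco _ (Subgroup.pow_mem _ hα _)
    (hro.coprime_dvd_left (orderOf_dvd_of_pow_eq_one (by rw [← pow_mul, ← hord, pow_orderOf_eq_one])))
  obtain ⟨j, -, hj⟩ := (Nat.dvd_prime_pow (Fact.out : p.Prime)).1
    (orderOf_dvd_of_pow_eq_one (show (α ^ r) ^ p ^ k = 1 by rw [← pow_mul, mul_comm, ← hord, pow_orderOf_eq_one]))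
  have h2 : α ^ r ∈ c.fixSys.autGroup V := hp _ (Subgroup.pow_mem _ hα _) j hj
  have h3 : α ^ ((Nat.gcd (p ^ k) r : ℕ) : ℤ) ∈ c.fixSys.autGroup V := by
    rw [Nat.gcd_eq_gcd_ab, zpow_add, zpow_mul, zpow_mul, zpow_natCast, zpow_natCast]
    exact Subgroup.mul_mem _ (Subgroup.zpow_mem _ h1 _) (Subgroup.zpow_mem _ h2 _)
  rwa [(hro.symm.pow_left k).gcd_eq_one, Nat.cast_one, zpow_one] at h3

/-- All maps of `N` extend. -/
theorem Ctx.ext (hf : Map N P f) : Ext F V R P f := by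
  haveI := finite_of_le c.tV.1
  obtain ⟨α, hα, f₀, hf₀, hff⟩ := fac_of_map (c.pS.to_le c.tV.1) c.n.1.1
    (fun Q hQ => c.fix_pResAut hQ) (E := c.fixSys) hf
  obtain ⟨g, hg, hge, hgW, hgR⟩ := (c.map_fixSys.1 hf₀.map).2.comp
    (c.map_fixSys.1 (map_of_mem_autGroup le_rfl (c.fix_top hα))).2 fun x hx => hf₀.map.mem hx
  exact ⟨g, hg, fun x hx => (hge x hx).trans (hff x hx).symm, hgW, hgR⟩

end Cfsg.Agent.Local.FS.Commute
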